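import Groth.Agent.SGA3.K209.WordConn
import Groth.Prelude.Def_AlgGrp
import Groth.Agent.Ega1.ReducedSub

/-!
# Commutators of two subgroups over an algebraically closed field

Bounded generation of the commutator subgroup in the two cases: `A` connected, or `A` and `B` normal.
-/

set_option autoImplicit false
universe u
open CategoryTheory CategoryTheory.Limits MonoidalCategory CartesianMonoidalCategory MonObj GrpObj
open AlgebraicGeometry TopologicalSpace Topology
open scoped Pointwise commutatorElement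

namespace K209.WordNorm

open K209.Words K209.WordSch K209.WordBC K209.WordConn Groth.Agent.Sga3.H782
open Groth.Agent.Sga3.H782.Points Groth.Agent.Sga3.H782.TopGrp

attribute [local instance] top

section Abstract

variable {Γ : Type*} [Group Γ] [TopologicalSpace Γ]

/-- A constructible subgroup is closed. -/
theorem isClosed_of_isConstructible [NoetherianSpace Γ] (h : ZarCont Γ) (D : Subgroup Γ)
    (hD : IsConstructible (D : Set Γ)) : IsClosed (D : Set Γ) := by
  by_contra hcon
  have hne : ¬ (closure (D : Set Γ) ⊆ D) := fun hh => hcon (closure_subset_iff_isClosed.mp hh)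
  obtain ⟨x, hxC, hxD⟩ := Set.not_subset.mp hne
  let C : Set Γ := closure (D : Set Γ)
  have hCE : C = (h.cl D : Set Γ) := rfl
  have h0 : NoetherianSpace C := Topology.IsInducing.subtypeVal.noetherianSpace
  let z₀ : C := ⟨1, subset_closure D.one_mem⟩
  obtain ⟨U, hUo, hUne, hUZ⟩ := NoetherianSpace.exists_isOpen_nonempty_subset_irreducibleComponent _
    (irreducibleComponent_mem_irreducibleComponents z₀)
  have hU : IsIrreducible U :=
    ⟨hUne, (irreducibleComponent_mem_irreducibleComponents z₀).1.2.open_subset hUo hUZ⟩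
  have hD' : IsConstructible (Subtype.val ⁻¹' (D : Set Γ) : Set C) :=
    isConstructible_preimage continuous_subtype_val hD
  -- every translate of `D` by an element of the closure is dense
  have hdense : ∀ y ∈ C, ∀ O : Set C, IsOpen O → O.Nonempty → ∃ d ∈ D, ∃ w ∈ O, (w : Γ) = y * d := by
    intro y hy O hO hOne
    obtain ⟨O', hO', rfl⟩ := isOpen_induced_iff.mp hO
    obtain ⟨w, hw⟩ := hOne
    have h1 : y⁻¹ * (w : Γ) ∈ closure (D : Set Γ) :=
      (h.cl D).mul_mem ((h.cl D).inv_mem hy) w.2
    have h2 : IsOpen ((fun t => y * t) ⁻¹' O') := hO'.preimage (h.left y)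
    obtain ⟨d, hd1, hd2⟩ := mem_closure_iff.mp h1 _ h2 (by simpa using hw)
    refine ⟨d, hd2, ⟨y * d, ?_⟩, hd1, rfl⟩
    exact (h.cl D).mul_mem hy (h.le_cl D hd2)
  rcases Groth.Agent.Ega3A.ConstrTopBasic.dichotomy hD' hU with ⟨V, hV, hne, hsub⟩ | ⟨V, hV, hne, hsub⟩
  · obtain ⟨d, hd, w, hw, hwd⟩ := hdense x hxC _ (hV.inter hUo) hne
    have h3 : (w : Γ) ∈ D := hsub hw
    rw [hwd] at h3
    exact hxD ((D.mul_mem_cancel_right hd).mp h3)
  · obtain ⟨d, hd, w, hw, hwd⟩ := hdense 1 (subset_closure D.one_mem) _ (hV.inter hUo) hne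
    have h3 : (w : Γ) ∉ (D : Set Γ) := hsub hw
    rw [hwd, _root_.one_mul] at h3
    exact h3 hd

/-- The set of commutators (and inverses) of a preconnected set containing `1` with any set is
preconnected. -/
theorem isPreconnected_cset (h : ZarCont Γ) {A B : Set Γ} (hA : _root_.IsPreconnected A)
    (hA1 : (1 : Γ) ∈ A) : _root_.IsPreconnected (Baer.cset A B) := by
  by_cases hB : B.Nonempty
  · obtain ⟨b₀, hb₀⟩ := hB
    refine isPreconnected_of_forall (1 : Γ) ?_
    rintro g ⟨a, ha, b, hb, hg | hg⟩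
    · refine ⟨(fun x => ⁅x, b⁆) '' A, ?_, ⟨1, hA1, by simp⟩, ⟨a, ha, hg.symm⟩,
        hA.image _ (h.comm' b).continuousOn⟩
      rintro _ ⟨x, hx, rfl⟩
      exact ⟨x, hx, b, hb, Or.inl rfl⟩
    · refine ⟨(fun x => ⁅x, b⁆⁻¹) '' A, ?_, ⟨1, hA1, by simp⟩, ⟨a, ha, hg.symm⟩,
        hA.image _ (h.inv.comp (h.comm' b)).continuousOn⟩
      rintro _ ⟨x, hx, rfl⟩
      exact ⟨x, hx, b, hb, Or.inr rfl⟩
  · rw [Set.not_nonempty_iff_eq_empty] at hB
    have : Baer.cset A B = ∅ := by
      ext g
      simp [Baer.cset, hB]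
    rw [this]
    exact isPreconnected_empty

omit [TopologicalSpace Γ] in
theorem cset_comm (A B : Set Γ) : Baer.cset A B = Baer.cset B A := by
  have h : ∀ A B : Set Γ, Baer.cset A B ⊆ Baer.cset B A := by
    rintro A B g ⟨a, ha, b, hb, hg | hg⟩
    · exact ⟨b, hb, a, ha, Or.inr (by rw [hg, commutatorElement_inv])⟩
    · exact ⟨b, hb, a, ha, Or.inl (by rw [hg, commutatorElement_inv])⟩
  exact Set.Subset.antisymm (h A B) (h B A)

omit [TopologicalSpace Γ] in
theorem cset_mono {A A' B B' : Set Γ} (hA : A ⊆ A') (hB : B ⊆ B') : Baer.cset A B ⊆ Baer.cset A' B' := by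
  rintro g ⟨a, ha, b, hb, hg⟩
  exact ⟨a, hA ha, b, hB hb, hg⟩

end Abstract

section General

variable {S : Scheme.{u}} {G A B : Over S} [GrpObj G] (a : A ⟶ G) (b : B ⟶ G)

/-- The commutator morphism. -/
noncomputable def comm : A ⊗ B ⟶ G :=
  (fst A B ≫ a) * (snd A B ≫ b) * (fst A B ≫ a)⁻¹ * (snd A B ≫ b)⁻¹

theorem comm_def : comm a b =
    (fst A B ≫ a) * (snd A B ≫ b) * (fst A B ≫ a)⁻¹ * (snd A B ≫ b)⁻¹ := rfl

theorem comp_comm {T : Over S} (t : T ⟶ A ⊗ B) :
    t ≫ comm a b = ⁅(t ≫ fst A B) ≫ a, (t ≫ snd A B) ≫ b⁆ := by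
  rw [comm_def, MonObj.comp_mul, MonObj.comp_mul, MonObj.comp_mul, GrpObj.comp_inv, GrpObj.comp_inv,
    commutatorElement_def]
  simp only [Category.assoc]

theorem lift_comm {T : Over S} (x : T ⟶ A) (y : T ⟶ B) : lift x y ≫ comm a b = ⁅x ≫ a, y ≫ b⁆ := by
  rw [comp_comm, lift_fst, lift_snd]

end General

section AlgClosed

variable {K : Type u} [Field K] {G A B : Over (Spec (CommRingCat.of K))} [GrpObj G]
  (a : A ⟶ G) (b : B ⟶ G)

/-- The signed values of the commutator morphism at rational points. -/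
theorem Y_comm : Y (comm a b) =
    Baer.cset (Set.range fun x : Pts A => (x ≫ a : Pts G)) (Set.range fun y : Pts B => (y ≫ b : Pts G)) := by
  ext g
  constructor
  · rintro ⟨t, ht⟩
    rw [comp_comm] at ht
    exact ⟨_, ⟨t ≫ fst A B, rfl⟩, _, ⟨t ≫ snd A B, rfl⟩, ht⟩
  · rintro ⟨_, ⟨x, rfl⟩, _, ⟨y, rfl⟩, hg⟩
    exact ⟨lift x y, by rw [lift_comm]; exact hg⟩

variable [IsAlgClosed K]

instance lft_tensor [LocallyOfFiniteType A.hom] [LocallyOfFiniteType B.hom] :
    LocallyOfFiniteType (A ⊗ B).hom := by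
  rw [Over.tensorObj_hom]; infer_instance

instance qc_tensor [QuasiCompact A.hom] [QuasiCompact B.hom] : QuasiCompact (A ⊗ B).hom := by
  rw [Over.tensorObj_hom]; infer_instance

/-- A connected group scheme locally of finite type is quasi-compact. -/
theorem quasiCompact_of_connected {k : Type u} [Field k] (A : Over (Spec (CommRingCat.of k))) [GrpObj A]
    [LocallyOfFiniteType A.hom] [ConnectedSpace A.left] : QuasiCompact A.hom := by
  obtain ⟨A0, hA0, i, hi, hc, hl, hq, hr⟩ := exists_neutral A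
  have h1 : CompactSpace A0.left := QuasiCompact.compactSpace_of_compactSpace A0.hom
  have h2 : connectedComponent (ev (1 : Pts A)) = Set.univ := PreconnectedSpace.connectedComponent_eq_univ _
  have h3 : CompactSpace A.left := by
    refine ⟨?_⟩
    rw [← h2, ← hr]
    exact isCompact_range i.left.continuous
  exact quasiCompact_of_compactSpace A.hom

section Conn

variable [GrpObj A] [IsMonHom a] [LocallyOfFiniteType G.hom] [LocallyOfFiniteType A.hom]
  [LocallyOfFiniteType B.hom] [QuasiCompact B.hom] [IsReduced (A ⊗ B).left]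

/-- Bounded generation of `(A, B)` for `A` connected. -/
theorem good_of_connected [ConnectedSpace A.left] [GrpObj B] [IsMonHom b] :
    ∃ N : ℕ, ∀ m : ℕ, N ≤ m → IsClosed (W (comm a b) m) ∧
      (Y (comm a b) ^ m : Set (Pts G)) = (Subgroup.closure (Y (comm a b)) : Set (Pts G)) := by
  have hq := quasiCompact_of_connected A
  refine good_of_range_subset (comm a b) ?_ ?_
  · rw [Y_comm]
    exact ⟨1, ⟨1, MonObj.one_comp a⟩, 1, ⟨1, MonObj.one_comp b⟩, Or.inl (by simp)⟩
  · rw [Y_comm]
    have hX : _root_.IsPreconnected (Set.univ : Set (Pts A)) :=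
      isPreconnected_preimage isClosed_univ isPreconnected_univ
    refine isPreconnected_cset zarCont ?_ ⟨1, MonObj.one_comp a⟩
    rw [← Set.image_univ]
    exact hX.image _ (continuous_comp a).continuousOn

end Conn


section Normal

variable [GrpObj A] [GrpObj B] [IsMonHom a] [IsMonHom b]

omit [IsAlgClosed K] [IsMonHom a] in
/-- Conjugation by a rational point is given by a morphism. -/
theorem exists_conj (hN : AlgGrp.IsNormalHom a) (g : Pts G) :
    ∃ c : A ⟶ A, ∀ x : Pts A, g * (x ≫ a) * g⁻¹ = (x ≫ c) ≫ a := by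
  obtain ⟨n', hn'⟩ := hN A (toUnit A ≫ g) (𝟙 A)
  refine ⟨n', fun x => ?_⟩
  have e : x ≫ toUnit A ≫ g = g := by
    rw [← Category.assoc]
    exact (congrArg (· ≫ g) (toUnit_unique (x ≫ toUnit A) (𝟙 _))).trans (Category.id_comp g)
  rw [Category.assoc, ← hn', MonObj.comp_mul, MonObj.comp_mul, GrpObj.comp_inv, e, Category.id_comp]

omit [IsAlgClosed K] in
theorem normal_range (hN : AlgGrp.IsNormalHom a) : (compHom a).range.Normal := by
  refine ⟨?_⟩
  rintro _ ⟨x, rfl⟩ g
  obtain ⟨c, hc⟩ := exists_conj a hN g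
  exact ⟨x ≫ c, (hc x).symm⟩

omit [IsAlgClosed K] in
theorem compHom_injective [IsClosedImmersion a.left] : Function.Injective (compHom a) := by
  have hmono : Mono a := Groth.Agent.Sga3C.ClosedSub.mono_of_left a
  intro x y hxy
  exact (cancel_mono a).mp hxy

omit [IsAlgClosed K] in
theorem normal_conn [IsClosedImmersion a.left] (hN : AlgGrp.IsNormalHom a) :
    ((zarCont (H := A)).conn.map (compHom a)).Normal := by
  refine ⟨?_⟩
  rintro _ ⟨x, hx, rfl⟩ g
  obtain ⟨c, hc⟩ := exists_conj a hN g
  refine ⟨x ≫ c, ?_, (hc x).symm⟩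
  have h1 : _root_.IsPreconnected ((fun y : Pts A => (y ≫ c : Pts A)) '' connectedComponent (1 : Pts A)) :=
    isPreconnected_connectedComponent.image _ (continuous_comp c).continuousOn
  have h2 : (1 : Pts A) ≫ c = 1 := by
    apply compHom_injective a
    change ((1 : Pts A) ≫ c) ≫ a = compHom a 1
    rw [← hc 1, map_one, MonObj.one_comp]
    simp
  exact h1.subset_connectedComponent (x := 1) ⟨1, mem_connectedComponent, h2⟩ ⟨x, hx, rfl⟩

/-- The connected component of the unit in the rational points. -/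
theorem mem_conn_iff [LocallyOfFiniteType A.hom] (x : Pts A) :
    x ∈ (zarCont (H := A)).conn ↔ ev x ∈ connectedComponent (ev (1 : Pts A)) := by
  constructor
  · intro h
    have h1 : _root_.IsPreconnected (ev '' connectedComponent (1 : Pts A)) :=
      isPreconnected_connectedComponent.image _ isInducing_ev.continuous.continuousOn
    exact h1.subset_connectedComponent (x := ev 1) ⟨1, mem_connectedComponent, rfl⟩ ⟨x, h, rfl⟩
  · intro h
    have h1 : _root_.IsPreconnected (ev ⁻¹' connectedComponent (ev (1 : Pts A)) : Set (Pts A)) :=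
      isPreconnected_preimage isClosed_connectedComponent isPreconnected_connectedComponent
    exact h1.subset_connectedComponent (x := 1) mem_connectedComponent h

omit [IsMonHom a] [IsAlgClosed K] in
theorem finite_quotient [LocallyOfFiniteType A.hom] [QuasiCompact A.hom] :
    Finite (Pts A ⧸ (zarCont (H := A)).conn) := by
  have h0 : NoetherianSpace (Pts A) := noetherianSpace
  have h1 : (irreducibleComponents (Pts A)).Finite := NoetherianSpace.finite_irreducibleComponents
  have h1' : Finite (irreducibleComponents (Pts A)) := h1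
  obtain ⟨n, ⟨e⟩⟩ := Finite.exists_equiv_fin (irreducibleComponents (Pts A))
  refine ((zarCont (H := A)).finite_quotient_and_card_le (fun i => (e.symm i : Set (Pts A))) ?_ ?_).1
  · intro i
    exact (e.symm i).2.1.2.isPreconnected
  · intro x
    refine ⟨e ⟨irreducibleComponent x, irreducibleComponent_mem_irreducibleComponents x⟩, ?_⟩
    simp only [Equiv.symm_apply_apply]
    exact mem_irreducibleComponent

omit [IsAlgClosed K] in
theorem exists_reps [LocallyOfFiniteType A.hom] [QuasiCompact A.hom] :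
    ∃ F : Set (Pts G), F.Finite ∧ ∀ x ∈ (compHom a).range, ∃ x' ∈ F, x' ∈ (compHom a).range ∧
      ∃ x₀ ∈ (zarCont (H := A)).conn.map (compHom a), x = x' * x₀ := by
  have := finite_quotient (A := A)
  refine ⟨Set.range fun q : Pts A ⧸ (zarCont (H := A)).conn => compHom a q.out, Set.finite_range _, ?_⟩
  rintro _ ⟨x, rfl⟩
  let q : Pts A ⧸ (zarCont (H := A)).conn := QuotientGroup.mk x
  refine ⟨_, ⟨q, rfl⟩, ⟨q.out, rfl⟩, compHom a (q.out⁻¹ * x), ⟨q.out⁻¹ * x, ?_, rfl⟩, ?_⟩
  · exact QuotientGroup.eq.mp (Quotient.out_eq' q)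
  · rw [← map_mul, mul_inv_cancel_left]

theorem exists_pow_conn [LocallyOfFiniteType G.hom] [LocallyOfFiniteType A.hom]
    [LocallyOfFiniteType B.hom] [QuasiCompact A.hom] [QuasiCompact B.hom] [GeometricallyReduced B.hom] :
    ∃ N : ℕ, ((⁅(zarCont (H := A)).conn.map (compHom a), (compHom b).range⁆ : Subgroup (Pts G)) :
      Set (Pts G)) ⊆
      (Baer.cset ((compHom a).range : Set (Pts G)) ((compHom b).range : Set (Pts G))) ^ N := by
  let F : Closeds A.left := ⟨connectedComponent (ev (1 : Pts A)), isClosed_connectedComponent⟩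
  let AZ := Groth.Agent.Sga3C.ClosedSub.sub A (Scheme.IdealSheafData.vanishingIdeal F)
  let iZ : AZ ⟶ A := Groth.Agent.Sga3C.ClosedSub.subι A (Scheme.IdealSheafData.vanishingIdeal F)
  have hAZ : IsReduced AZ.left := Groth.Agent.Ega1.ReducedSub.isReduced_subscheme_vanishingIdeal F
  have hr : Set.range iZ.left.base = F := range_subι A F
  have hci : IsClosedImmersion iZ.left := inferInstance
  have hlft : LocallyOfFiniteType AZ.hom := by rw [← Over.w iZ]; infer_instance
  have hqc : QuasiCompact AZ.hom := by rw [← Over.w iZ]; infer_instance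
  have hln : IsLocallyNoetherian AZ.left := LocallyOfFiniteType.isLocallyNoetherian AZ.hom
  have hpts : Set.range (fun x : Pts AZ => (x ≫ iZ ≫ a : Pts G)) =
      ((zarCont (H := A)).conn.map (compHom a) : Set (Pts G)) := by
    ext g
    constructor
    · rintro ⟨x, rfl⟩
      refine ⟨x ≫ iZ, ?_, show (x ≫ iZ) ≫ a = x ≫ iZ ≫ a from Category.assoc _ _ _⟩
      rw [SetLike.mem_coe, mem_conn_iff, ev_comp]
      exact hr.le ⟨_, rfl⟩
    · rintro ⟨x, hx, rfl⟩
      rw [SetLike.mem_coe, mem_conn_iff] at hx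
      obtain ⟨y, rfl⟩ := exists_lift iZ x (hr.ge hx)
      exact ⟨y, (Category.assoc _ _ _).symm⟩
  have hptsb : Set.range (fun x : Pts B => (x ≫ b : Pts G)) = ((compHom b).range : Set (Pts G)) := rfl
  have hred : IsReduced (AZ ⊗ B).left := by
    rw [Over.tensorObj_left]; infer_instance
  have hone : (1 : Pts G) ∈ Y (comm (iZ ≫ a) b) := by
    rw [Y_comm, hpts, hptsb]
    exact Baer.one_mem_cset _ _
  obtain ⟨N, hN⟩ := good_of_range_subset (comm (iZ ≫ a) b) hone (by
    rw [Y_comm, hpts, hptsb]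
    refine isPreconnected_cset zarCont ?_ (one_mem _)
    exact (zarCont (H := A)).isPreconnected_conn.image _ (continuous_comp a).continuousOn)
  refine ⟨N, ?_⟩
  have h1 := (hN N le_rfl).2
  rw [Y_comm, hpts, hptsb, Baer.closure_cset] at h1
  rw [← h1]
  refine Set.pow_subset_pow_left (cset_mono ?_ subset_rfl)
  exact Subgroup.map_le_range _ _

/-- Bounded generation of `(A, B)` for `A` and `B` normal of finite type. -/
theorem good_of_normal [LocallyOfFiniteType G.hom] [IsClosedImmersion a.left] [IsClosedImmersion b.left]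
    [QuasiCompact A.hom] [QuasiCompact B.hom] [GeometricallyReduced A.hom] [GeometricallyReduced B.hom]
    (hA : AlgGrp.IsNormalHom a) (hB : AlgGrp.IsNormalHom b) :
    ∃ N : ℕ, ∀ m : ℕ, N ≤ m → IsClosed (W (comm a b) m) ∧
      (Y (comm a b) ^ m : Set (Pts G)) = (Subgroup.closure (Y (comm a b)) : Set (Pts G)) := by
  have hlA : LocallyOfFiniteType A.hom := by rw [← Over.w a]; infer_instance
  have hlB : LocallyOfFiniteType B.hom := by rw [← Over.w b]; infer_instance
  have nA := normal_range a hA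
  have nB := normal_range b hB
  have nA₀ := normal_conn a hA
  have nB₀ := normal_conn b hB
  set A' := (compHom a).range with hA'
  set B' := (compHom b).range with hB'
  set A₀ := (zarCont (H := A)).conn.map (compHom a) with hA₀
  set B₀ := (zarCont (H := B)).conn.map (compHom b) with hB₀
  obtain ⟨N₁, h1⟩ := exists_pow_conn a b
  obtain ⟨N₂, h2⟩ := exists_pow_conn b a
  rw [cset_comm, Subgroup.commutator_comm] at h2
  have hYe : Y (comm a b) = Baer.cset (A' : Set (Pts G)) (B' : Set (Pts G)) := Y_comm a b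
  let C : Subgroup (Pts G) := ⁅A₀, B'⁆ ⊔ ⁅A', B₀⁆
  have nC : C.Normal := inferInstance
  have hC : (C : Set (Pts G)) ⊆ (Baer.cset (A' : Set (Pts G)) (B' : Set (Pts G))) ^ (N₁ + N₂) := by
    rw [Subgroup.mul_normal, pow_add]
    exact Set.mul_subset_mul h1 h2
  obtain ⟨M, hM⟩ := Baer.exists_pow_eq_of_cover (L := ⁅A', B'⁆) (C := C) (Baer.one_mem_cset A' B') (by
      ext g
      rw [← Baer.closure_cset, SetLike.mem_coe, mem_closure_iff_exists_pow, Set.mem_iUnion]
      rw [← hYe, inv_Y]) hC
    (Baer.exists_finite_cover A' B' C A₀ B₀ (exists_reps a) (exists_reps b)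
      (fun x hx y hy => Subgroup.mem_sup_left (Subgroup.commutator_mem_commutator hx hy))
      (fun x hx y hy => Subgroup.mem_sup_right (Subgroup.commutator_mem_commutator hx hy)))
  have hpow : ∀ m, M ≤ m → (Y (comm a b) ^ m : Set (Pts G)) =
      (Subgroup.closure (Y (comm a b)) : Set (Pts G)) := by
    intro m hm
    rw [hYe, hM m hm, Baer.closure_cset]
  refine ⟨M, fun m hm => ⟨?_, hpow m hm⟩⟩
  -- closedness
  obtain ⟨n', hn'⟩ := hA (A ⊗ B) (snd A B ≫ b) (fst A B)⁻¹
  have hc : (fst A B * n') ≫ a = comm a b := by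
    rw [MonObj.mul_comp, ← hn', GrpObj.inv_comp, comm_def]
    simp only [_root_.mul_assoc]
  rw [← hc] at hpow ⊢
  rw [W_comp]
  refine a.left.isClosedEmbedding.isClosedMap _ ?_
  have hY' : (Y (fst A B * n') ^ m : Set (Pts A)) = (Subgroup.closure (Y (fst A B * n')) : Set (Pts A)) := by
    have h3 := hpow m hm
    rw [Y_comp_pow, closure_Y_comp] at h3
    exact (compHom_injective a).image_injective h3
  refine isClosed_of_preimage (isLocallyConstructible_W _ m) ?_
  rw [preimage_W, hY']
  have h0 : NoetherianSpace (Pts A) := noetherianSpace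
  refine isClosed_of_isConstructible zarCont _ ?_
  rw [← hY']
  exact isConstructible_Y_pow _ m

end Normal

end AlgClosed

end K209.WordNorm
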