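import Groth.Agent.SGA3.K209.WordBC
import Groth.Agent.S3023
import Groth.Agent.S3025

/-!
# Bounded generation for connected sources

* transfer of bounded generation along closed subgroup immersions;
* the connected case (Borel's theorem) over an algebraically closed field without quasi-compactness of the
  group, and for geometrically connected sources over any field.
-/

set_option autoImplicit false
universe u
open CategoryTheory CategoryTheory.Limits MonoidalCategory CartesianMonoidalCategory MonObj GrpObj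
open AlgebraicGeometry TopologicalSpace Topology
open scoped Pointwise commutatorElement

namespace K209.WordConn

open K209.Words K209.WordSch K209.WordBC Groth.Agent.Sga3.H782 Groth.Agent.Sga3.H782.Points

attribute [local instance] top

section Factor

/-- A morphism from a reduced scheme with set-theoretic image in a closed subscheme factors. -/
theorem factors_of_range {S : Scheme.{u}} {T Z G : Over S} [IsReduced T.left] (i : Z ⟶ G)
    [IsClosedImmersion i.left] (h : T ⟶ G) (hr : Set.range h.left.base ⊆ Set.range i.left.base) :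
    ∃ h' : T ⟶ Z, h' ≫ i = h := by
  rw [Groth.Agent.Sga3C.ClosedSub.over_factors_iff]
  have h1 : h.left.ker = Scheme.IdealSheafData.vanishingIdeal (.closure (Set.range h.left)) := by
    rw [← Set.image_univ, ← TopologicalSpace.Closeds.coe_top,
      ← Scheme.IdealSheafData.map_vanishingIdeal, Scheme.IdealSheafData.vanishingIdeal_top,
      Scheme.nilradical_eq_bot, Scheme.IdealSheafData.map_bot]
  rw [h1, ← Scheme.IdealSheafData.le_support_iff_le_vanishingIdeal,
    TopologicalSpace.Closeds.closure_le]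
  exact hr.trans i.left.range_subset_ker_support

theorem isReduced_left {k : Type u} [Field k] (X : Over (Spec (CommRingCat.of k)))
    [h : GeometricallyReduced X.hom] : IsReduced X.left :=
  self_of_isIntegral_of_geometrically h.geometrically_isReduced

end Factor

section Comp

variable {S : Scheme.{u}} {X H H' : Over S} [GrpObj H] [GrpObj H'] (f : X ⟶ H') (j : H' ⟶ H)
  [IsMonHom j]

theorem W_comp (n : ℕ) : W (f ≫ j) n = j.left.base '' W f n := by
  ext g
  constructor
  · rintro ⟨T, p, x, ε, rfl⟩
    refine ⟨(wv f x ε).left.base p, ⟨T, p, x, ε, rfl⟩, ?_⟩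
    rw [← wv_comp_hom]
    exact (Groth.Agent.Sga3C.HomogIrr.comp_left_apply _ j p).symm
  · rintro ⟨_, ⟨T, p, x, ε, rfl⟩, rfl⟩
    refine ⟨T, p, x, ε, ?_⟩
    rw [← wv_comp_hom]
    exact Groth.Agent.Sga3C.HomogIrr.comp_left_apply _ j p

end Comp

section AlgClosed

variable {K : Type u} [Field K]

/-- Composition with a homomorphism on rational points. -/
noncomputable def compHom {H H' : Over (Spec (CommRingCat.of K))} [GrpObj H] [GrpObj H'] (j : H' ⟶ H)
    [IsMonHom j] : Pts H' →* Pts H :=
  MonoidHom.mk' (fun x => x ≫ j) fun x y => MonObj.mul_comp x y j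

theorem compHom_apply {X H H' : Over (Spec (CommRingCat.of K))} [GrpObj H] [GrpObj H'] (f : X ⟶ H')
    (j : H' ⟶ H) [IsMonHom j] (x : Pts X) : compHom j (x ≫ f : Pts H') = (x ≫ f ≫ j : Pts H) :=
  Category.assoc x f j

theorem Y_comp {X H H' : Over (Spec (CommRingCat.of K))} [GrpObj H] [GrpObj H'] (f : X ⟶ H')
    (j : H' ⟶ H) [IsMonHom j] : Y (f ≫ j) = compHom j '' Y f := by
  ext g
  constructor
  · rintro ⟨x, hx | hx⟩
    · exact ⟨x ≫ f, ⟨x, Or.inl rfl⟩, by rw [hx, compHom_apply]⟩
    · exact ⟨(x ≫ f)⁻¹, ⟨x, Or.inr rfl⟩, by rw [map_inv, hx, compHom_apply]⟩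
  · rintro ⟨_, ⟨x, rfl | rfl⟩, rfl⟩
    · exact ⟨x, Or.inl (compHom_apply f j x)⟩
    · exact ⟨x, Or.inr (by rw [map_inv, compHom_apply])⟩

theorem Y_comp_pow {X H H' : Over (Spec (CommRingCat.of K))} [GrpObj H] [GrpObj H'] (f : X ⟶ H')
    (j : H' ⟶ H) [IsMonHom j] (n : ℕ) : Y (f ≫ j) ^ n = compHom j '' (Y f ^ n) := by
  rw [Y_comp, Set.image_pow]

theorem closure_Y_comp {X H H' : Over (Spec (CommRingCat.of K))} [GrpObj H] [GrpObj H'] (f : X ⟶ H')
    (j : H' ⟶ H) [IsMonHom j] :
    (Subgroup.closure (Y (f ≫ j)) : Set (Pts H)) =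
      compHom j '' (Subgroup.closure (Y f) : Set (Pts H')) := by
  rw [Y_comp, ← MonoidHom.map_closure]
  rfl

variable [IsAlgClosed K]

/-- The rational points of a closed preconnected set are preconnected. -/
theorem isPreconnected_preimage {H : Over (Spec (CommRingCat.of K))} [LocallyOfFiniteType H.hom]
    {Z : Set H.left} (hZc : IsClosed Z) (hZ : _root_.IsPreconnected Z) :
    _root_.IsPreconnected (ev ⁻¹' Z : Set (Pts H)) := by
  have : JacobsonSpace H.left := LocallyOfFiniteType.jacobsonSpace H.hom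
  have hpt : ∀ C : Set H.left, IsClosed C → C.Nonempty → ∃ g : Pts H, ev g ∈ C := by
    intro C hC hne
    have h1 : (C ∩ closedPoints H.left).Nonempty := by
      by_contra h
      rw [Set.not_nonempty_iff_eq_empty] at h
      have h4 := JacobsonSpace.closure_inter_closedPoints hC
      rw [h, closure_empty] at h4
      rw [← h4] at hne
      exact Set.not_nonempty_empty hne
    obtain ⟨x, hx, hxc⟩ := h1
    rw [← range_ev] at hxc
    obtain ⟨g, rfl⟩ := hxc
    exact ⟨g, hx⟩
  rw [isPreconnected_closed_iff]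
  intro t t' ht ht' hcov hne hne'
  obtain ⟨T, hT, rfl⟩ := isInducing_ev.isClosed_iff.mp ht
  obtain ⟨T', hT', rfl⟩ := isInducing_ev.isClosed_iff.mp ht'
  have hcov' : Z ⊆ T ∪ T' := by
    have h5 := JacobsonSpace.closure_inter_closedPoints hZc
    rw [← h5]
    refine closure_minimal ?_ (hT.union hT')
    rintro x ⟨hxZ, hxc⟩
    rw [← range_ev] at hxc
    obtain ⟨g, rfl⟩ := hxc
    exact hcov hxZ
  obtain ⟨g₁, h1, h1'⟩ := hne
  obtain ⟨g₂, h2, h2'⟩ := hne'
  have h6 := isPreconnected_closed_iff.mp hZ T T' hT hT' hcov' ⟨ev g₁, h1, h1'⟩ ⟨ev g₂, h2, h2'⟩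
  obtain ⟨g, hg⟩ := hpt _ (hZc.inter (hT.inter hT')) h6
  exact ⟨g, hg.1, hg.2⟩

omit [IsAlgClosed K] in
/-- Transfer of bounded generation along a closed subgroup. -/
theorem transfer {X H H' : Over (Spec (CommRingCat.of K))} [GrpObj H] [GrpObj H'] (f : X ⟶ H')
    (j : H' ⟶ H) [IsMonHom j] [IsClosedImmersion j.left] {m : ℕ} (h1 : IsClosed (W f m))
    (h2 : (Y f ^ m : Set (Pts H')) = (Subgroup.closure (Y f) : Set (Pts H'))) :
    IsClosed (W (f ≫ j) m) ∧
      (Y (f ≫ j) ^ m : Set (Pts H)) = (Subgroup.closure (Y (f ≫ j)) : Set (Pts H)) := by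
  refine ⟨?_, ?_⟩
  · rw [W_comp]
    exact j.left.isClosedEmbedding.isClosedMap _ h1
  · rw [Y_comp_pow, closure_Y_comp, h2]

/-- The neutral component of a group scheme locally of finite type over a field is a closed subgroup of
finite type. -/
theorem exists_neutral {k : Type u} [Field k] (G : Over (Spec (CommRingCat.of k))) [GrpObj G]
    [LocallyOfFiniteType G.hom] :
    ∃ (G0 : Over (Spec (CommRingCat.of k))) (_ : GrpObj G0) (i : G0 ⟶ G), IsMonHom i ∧
      IsClosedImmersion i.left ∧ LocallyOfFiniteType G0.hom ∧ QuasiCompact G0.hom ∧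
      Set.range i.left.base = connectedComponent (ev (1 : Pts G)) := by
  obtain ⟨G0, hG0, i, hi, hc, hfl, hr⟩ := Groth.Agent.S3023.result k G
  have h1 : LocallyOfFiniteType G0.hom := by rw [← Over.w i]; infer_instance
  have hr' : Set.range i.left.base = connectedComponent (ev (1 : Pts G)) := by
    rw [hr (IsLocalRing.closedPoint k)]
    congr 1
  have h2 : LocallyOfFinitePresentation G0.hom := inferInstance
  have h3 : UniversallyOpen G0.hom := inferInstance
  have h4 : ∀ s : (Spec (CommRingCat.of k) : Scheme.{u}), _root_.IsConnected (G0.hom.base ⁻¹' {s}) := by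
    intro s
    have e : G0.hom.base ⁻¹' {s} = Set.univ := by
      ext x
      simp only [Set.mem_preimage, Set.mem_singleton_iff, Set.mem_univ, iff_true]
      exact Subsingleton.elim (α := PrimeSpectrum k) _ _
    rw [e, ← connectedSpace_iff_univ]
    have h5 : _root_.IsConnected (Set.range i.left.base) := by
      rw [hr']; exact isConnected_connectedComponent
    have h6 : _root_.IsConnected (Set.univ : Set G0.left) := by
      rw [← Set.image_univ] at h5
      refine ⟨?_, ?_⟩
      · obtain ⟨_, x, _, _⟩ := h5.1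
        exact ⟨x, trivial⟩
      · exact (i.left.isClosedEmbedding.isInducing.isPreconnected_image).mp h5.2
    exact connectedSpace_iff_univ.mpr h6
  exact ⟨G0, hG0, i, hi, hc, h1, (Groth.Agent.S3025.result _ G0 h4).2, hr'⟩

/-- **Borel's theorem** without quasi-compactness of the group. -/
theorem good_of_range_subset {X H : Over (Spec (CommRingCat.of K))} [GrpObj H]
    [LocallyOfFiniteType X.hom] [QuasiCompact X.hom] [LocallyOfFiniteType H.hom] [IsReduced X.left]
    (f : X ⟶ H) (h1 : (1 : Pts H) ∈ Y f) (hY : _root_.IsPreconnected (Y f)) :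
    ∃ N : ℕ, ∀ m : ℕ, N ≤ m → IsClosed (W f m) ∧
      (Y f ^ m : Set (Pts H)) = (Subgroup.closure (Y f) : Set (Pts H)) := by
  obtain ⟨H0, hH0, j, hj, hc, hl, hq, hr⟩ := exists_neutral H
  have hmono : Mono j := Groth.Agent.Sga3C.ClosedSub.mono_of_left j
  -- the image of `f` lies in the neutral component
  have hsub : Y f ⊆ ev ⁻¹' connectedComponent (ev (1 : Pts H)) := by
    intro y hy
    have h2 : _root_.IsPreconnected (ev '' Y f) := hY.image _ isInducing_ev.continuous.continuousOn
    exact h2.subset_connectedComponent ⟨1, h1, rfl⟩ ⟨y, hy, rfl⟩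
  have hrange : Set.range f.left.base ⊆ Set.range j.left.base := by
    rw [hr]
    rintro _ ⟨x, rfl⟩
    have hJ : JacobsonSpace X.left := LocallyOfFiniteType.jacobsonSpace X.hom
    have h3 : closedPoints X.left ⊆ f.left.base ⁻¹' connectedComponent (ev (1 : Pts H)) := by
      intro z hz
      rw [← range_ev] at hz
      obtain ⟨t, rfl⟩ := hz
      rw [Set.mem_preimage, ← ev_comp]
      exact hsub ⟨t, Or.inl rfl⟩
    have h4 : x ∈ closure (closedPoints X.left) := by
      rw [closure_closedPoints]; trivial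
    exact (closure_minimal h3 (isClosed_connectedComponent.preimage f.left.continuous)) h4
  obtain ⟨f', rfl⟩ := factors_of_range j f hrange
  have hinj : Function.Injective (compHom j) := by
    intro x y hxy
    exact (cancel_mono j).mp hxy
  have hind : IsInducing (compHom j : Pts H0 → Pts H) := by
    have e : (ev : Pts H → H.left) ∘ (compHom j) = j.left.base ∘ ev := by
      funext x; exact ev_comp x j
    have h5 : IsInducing ((ev : Pts H → H.left) ∘ (compHom j)) := by
      rw [e]
      exact j.left.isClosedEmbedding.isInducing.comp isInducing_ev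
    exact isInducing_ev.of_comp_iff.mp h5
  rw [Y_comp] at h1 hY
  have h1' : (1 : Pts H0) ∈ Y f' := by
    obtain ⟨y, hy, hy1⟩ := h1
    have : y = 1 := hinj (by rw [hy1, map_one])
    rwa [this] at hy
  have hY' : _root_.IsPreconnected (Y f') := hind.isPreconnected_image.mp hY
  obtain ⟨N, hN⟩ := good_of_isPreconnected f' h1' hY'
  exact ⟨N, fun m hm => transfer f' j (hN m hm).1 (hN m hm).2.1⟩

/-- The signed values of a morphism with connected source having the unit as a value. -/
theorem isPreconnected_Y {X H : Over (Spec (CommRingCat.of K))} [GrpObj H]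
    [LocallyOfFiniteType X.hom] [LocallyOfFiniteType H.hom] [PreconnectedSpace X.left]
    (f : X ⟶ H) (x₀ : Pts X) (hx₀ : x₀ ≫ f = 1) : _root_.IsPreconnected (Y f) := by
  have hX : _root_.IsPreconnected (Set.univ : Set (Pts X)) :=
    isPreconnected_preimage isClosed_univ isPreconnected_univ
  have e : Y f = Set.range (fun x : Pts X => (x ≫ f : Pts H)) ∪
      Set.range (fun x : Pts X => ((x ≫ f)⁻¹ : Pts H)) := by
    ext g
    constructor
    · rintro ⟨x, hx | hx⟩
      · exact Or.inl ⟨x, hx.symm⟩
      · exact Or.inr ⟨x, hx.symm⟩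
    · rintro (⟨x, hx⟩ | ⟨x, hx⟩)
      · exact ⟨x, Or.inl hx.symm⟩
      · exact ⟨x, Or.inr hx.symm⟩
  rw [e]
  have h1 : Continuous (fun x : Pts X => (x ≫ f : Pts H)) := continuous_comp f
  have h2 : Continuous (fun x : Pts X => ((x ≫ f)⁻¹ : Pts H)) := zarCont.inv.comp h1
  refine _root_.IsPreconnected.union 1 ⟨x₀, hx₀⟩ ⟨x₀, by simp [hx₀]⟩ ?_ ?_
  · rw [← Set.image_univ]; exact hX.image _ h1.continuousOn
  · rw [← Set.image_univ]; exact hX.image _ h2.continuousOn

end AlgClosed

section Field

variable {k : Type u} [Field k]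

/-- The base change to an algebraic closure. -/
noncomputable abbrev acl (k : Type u) [Field k] :
    Spec (CommRingCat.of (AlgebraicClosure k)) ⟶ Spec (CommRingCat.of k) :=
  Spec.map (CommRingCat.ofHom (algebraMap k (AlgebraicClosure k)))

/-- Inclusions between sets of words may be checked after base change. -/
theorem subset_of_bc {K : Type u} [Field K] (σ : Spec (CommRingCat.of K) ⟶ Spec (CommRingCat.of k))
    {G : Over (Spec (CommRingCat.of k))} {A B : Set G.left}
    (h : (pj σ G).base ⁻¹' A ⊆ (pj σ G).base ⁻¹' B) : A ⊆ B := by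
  intro x hx
  obtain ⟨y, rfl⟩ := pj_surjective σ G x
  exact h hx

/-- The unit point of the base change lies over the unit point. -/
theorem pj_ev_one {K : Type u} [Field K] (σ : Spec (CommRingCat.of K) ⟶ Spec (CommRingCat.of k))
    (G : Over (Spec (CommRingCat.of k))) [GrpObj G] :
    (pj σ G).base (ev (1 : Pts (Red.bc σ G))) = ev (1 : Pts G) := by
  have h1 : (Groth.Agent.Sga3B.BcPts.bcEquiv σ (𝟙_ _) G).symm (1 : Pts (Red.bc σ G)) = 1 :=
    (Groth.Agent.Sga3B.BcPts.bcMulEquiv σ (𝟙_ _) G).symm.map_one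
  have h2 := bcEquiv_symm_left σ (1 : Pts (Red.bc σ G))
  rw [h1] at h2
  have h3 : (pj σ G).base (ev (1 : Pts (Red.bc σ G))) =
      (1 : (Over.map σ).obj (𝟙_ (Over (Spec (CommRingCat.of K)))) ⟶ G).left.base
        (IsLocalRing.closedPoint K) := by
    rw [h2]; rfl
  rw [h3]
  have h4 : (1 : (Over.map σ).obj (𝟙_ (Over (Spec (CommRingCat.of K)))) ⟶ G) =
      toUnit _ ≫ (1 : Pts G) := by rw [MonObj.comp_one]
  rw [h4, Groth.Agent.Sga3C.HomogIrr.comp_left_apply]
  exact congrArg _ (Subsingleton.elim (α := PrimeSpectrum k) _ _)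

/-- The image of a base change. -/
theorem range_map {K : Type u} [Field K] (σ : Spec (CommRingCat.of K) ⟶ Spec (CommRingCat.of k))
    {X G : Over (Spec (CommRingCat.of k))} (f : X ⟶ G) :
    Set.range ((Over.pullback σ).map f).left.base = (pj σ G).base ⁻¹' Set.range f.left.base := by
  ext g
  constructor
  · rintro ⟨x, rfl⟩
    exact ⟨_, (map_left_pj σ f x).symm⟩
  · rintro ⟨x, hx⟩
    obtain ⟨p', hp1, hp2⟩ := Scheme.exists_preimage_of_isPullback
      (Groth.Agent.Sga3C.ActBase.isPullback_map_left σ f) g x hx.symm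
    exact ⟨p', hp1⟩

/-- **Bounded generation** for a geometrically connected and geometrically reduced source of finite type
having the unit as a value, over any field. -/
theorem exists_isSubgrpSet (G X : Over (Spec (CommRingCat.of k))) [GrpObj G]
    [LocallyOfFiniteType G.hom] [LocallyOfFiniteType X.hom] [QuasiCompact X.hom]
    [GeometricallyReduced X.hom] [GeometricallyConnected X.hom] (f : X ⟶ G)
    (he : ev (1 : Pts G) ∈ Set.range f.left.base) :
    ∃ N : ℕ, ∀ m : ℕ, N ≤ m → IsSubgrpSet (acl k) G (W f m) ∧ Set.range f.left.base ⊆ W f m := by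
  let K := AlgebraicClosure k
  let σ := acl k
  let f' : Red.bc σ X ⟶ Red.bc σ G := (Over.pullback σ).map f
  have hred : IsReduced (Red.bc σ X).left :=
    GeometricallyReduced.geometrically_isReduced (f := X.hom) σ _ _ (.of_hasPullback X.hom σ)
  have hconn : ConnectedSpace (Red.bc σ X).left :=
    GeometricallyConnected.geometrically_connectedSpace (f := X.hom) σ _ _ (.of_hasPullback X.hom σ)
  have h1 : ∃ x₀ : Pts (Red.bc σ X), x₀ ≫ f' = 1 := by
    apply exists_lift f' 1
    rw [range_map, Set.mem_preimage, pj_ev_one]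
    exact he
  obtain ⟨x₀, hx₀⟩ := h1
  obtain ⟨N, hN⟩ := good_of_range_subset f' ⟨x₀, Or.inl hx₀.symm⟩ (isPreconnected_Y f' x₀ hx₀)
  refine ⟨N + 1, fun m hm => ⟨?_, ?_⟩⟩
  · obtain ⟨e1, e2⟩ := hN m (by omega)
    exact isSubgrpSet_W f e1 e2
  · refine (range_subset_W_one f).trans (subset_of_bc σ ?_)
    rw [← W_bc, ← W_bc]
    exact W_mono f' x₀ hx₀ (by omega)

end Field

end K209.WordConn
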