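import Groth.Agent.Sga3.H782.Points
import Mathlib.Algebra.Group.Pointwise.Set.BigOperators
import Mathlib.Algebra.Group.Subgroup.Pointwise

/-!
# Words in a morphism to a group scheme

For `f : X ⟶ H` over a scheme `S`, `H` a group: the words `f(x₁)^{±1} ⋯ f(xₙ)^{±1}` of length `n`, the
universal one on the `n`-fold self-product of `X`, and the set `W f n` of points of `H` lying under
words of length `n`.  Over an algebraically closed field the rational points in `W f n` are the elements
of the `n`-th power of the set of signed values of `f` on rational points.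
-/

set_option autoImplicit false
universe u
open CategoryTheory CategoryTheory.Limits MonoidalCategory CartesianMonoidalCategory MonObj GrpObj
open AlgebraicGeometry TopologicalSpace Topology
open scoped Pointwise

namespace K209.Words

section Grp

variable {Γ : Type*} [Group Γ]

/-- The subgroup generated by a symmetric set is the union of its powers. -/
theorem mem_closure_iff_exists_pow {Y : Set Γ} (hY : Y⁻¹ = Y) {g : Γ} :
    g ∈ Subgroup.closure Y ↔ ∃ n : ℕ, g ∈ Y ^ n := by
  constructor
  · intro h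
    have h1 : g ∈ Submonoid.closure Y := by
      have h2 : g ∈ (Subgroup.closure Y).toSubmonoid := h
      rwa [Subgroup.closure_toSubmonoid, hY, Set.union_self] at h2
    obtain ⟨l, hl, rfl⟩ := Submonoid.exists_list_of_mem_closure h1
    exact ⟨l.length, Set.mem_pow.mpr ⟨fun j => ⟨l.get j, hl _ (List.get_mem l j)⟩, by simp⟩⟩
  · rintro ⟨n, hn⟩
    obtain ⟨y, rfl⟩ := Set.mem_pow.mp hn
    refine Subgroup.list_prod_mem _ fun z hz => ?_
    rw [List.mem_ofFn] at hz
    obtain ⟨j, rfl⟩ := hz
    exact Subgroup.subset_closure (y j).2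

end Grp

section General

variable {S : Scheme.{u}} {X H : Over S} [GrpObj H] (f : X ⟶ H)

/-- The value of a word. -/
noncomputable def wv {T : Over S} {n : ℕ} (x : Fin n → (T ⟶ X)) (ε : Fin n → Bool) : T ⟶ H :=
  (List.ofFn fun j : Fin n => if ε j then x j ≫ f else (x j ≫ f)⁻¹).prod

theorem wv_def {T : Over S} {n : ℕ} (x : Fin n → (T ⟶ X)) (ε : Fin n → Bool) :
    wv f x ε = (List.ofFn fun j : Fin n => if ε j then x j ≫ f else (x j ≫ f)⁻¹).prod := rfl

/-- The points lying under words of length `n`. -/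
def W (n : ℕ) : Set H.left :=
  {g | ∃ (T : Over S) (p : T.left) (x : Fin n → (T ⟶ X)) (ε : Fin n → Bool),
    (wv f x ε).left.base p = g}

theorem comp_wv {T T' : Over S} (t : T' ⟶ T) {n : ℕ} (x : Fin n → (T ⟶ X)) (ε : Fin n → Bool) :
    t ≫ wv f x ε = wv f (fun j => t ≫ x j) ε := by
  induction n with
  | zero => simp [wv]
  | succ n ih =>
    have h := ih (fun j => x j.succ) (fun j => ε j.succ)
    rw [wv, wv, List.ofFn_succ, List.prod_cons, List.ofFn_succ, List.prod_cons, MonObj.comp_mul]
    congr 1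
    by_cases h0 : ε 0
    · simp [h0]
    · simp [h0, GrpObj.comp_inv]

theorem wv_comp_hom {T : Over S} {H' : Over S} [GrpObj H'] (i : H ⟶ H') [IsMonHom i] {n : ℕ}
    (x : Fin n → (T ⟶ X)) (ε : Fin n → Bool) :
    wv f x ε ≫ i = wv (f ≫ i) x ε := by
  induction n with
  | zero => simp [wv]
  | succ n ih =>
    have h := ih (fun j => x j.succ) (fun j => ε j.succ)
    rw [wv, wv, List.ofFn_succ, List.prod_cons, List.ofFn_succ, List.prod_cons, MonObj.mul_comp]
    congr 1
    by_cases h0 : ε 0
    · simp [h0]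
    · simp [h0, GrpObj.inv_comp]

/-- The `n`-fold self-product. -/
noncomputable def P (X : Over S) : ℕ → Over S
  | 0 => 𝟙_ (Over S)
  | n + 1 => X ⊗ P X n

/-- The projections of the `n`-fold self-product. -/
noncomputable def pr (X : Over S) : (n : ℕ) → Fin n → (P X n ⟶ X)
  | 0 => fun j => j.elim0
  | n + 1 => Fin.cons (fst X (P X n)) (fun j => snd X (P X n) ≫ pr X n j)

theorem exists_tuple {T : Over S} {n : ℕ} (x : Fin n → (T ⟶ X)) :
    ∃ t : T ⟶ P X n, ∀ j, t ≫ pr X n j = x j := by
  induction n with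
  | zero => exact ⟨toUnit T, fun j => j.elim0⟩
  | succ n ih =>
    obtain ⟨t, ht⟩ := ih (fun j => x j.succ)
    refine ⟨lift (x 0) t, fun j => ?_⟩
    refine Fin.cases ?_ (fun j => ?_) j
    · exact lift_fst _ _
    · change lift (x 0) t ≫ snd X (P X n) ≫ pr X n j = _
      rw [lift_snd_assoc, ht]

/-- The universal word. -/
noncomputable def uw (n : ℕ) (ε : Fin n → Bool) : P X n ⟶ H := wv f (pr X n) ε

theorem W_eq (n : ℕ) : W f n = ⋃ ε : Fin n → Bool, Set.range (uw f n ε).left.base := by
  ext g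
  simp only [Set.mem_iUnion]
  constructor
  · rintro ⟨T, p, x, ε, rfl⟩
    obtain ⟨t, ht⟩ := exists_tuple x
    refine ⟨ε, t.left.base p, ?_⟩
    have : wv f x ε = t ≫ uw f n ε := by
      rw [uw, comp_wv]
      congr 1
      funext j; exact (ht j).symm
    rw [this]
    simp [Over.comp_left]
  · rintro ⟨ε, p, rfl⟩
    exact ⟨P X n, p, pr X n, ε, rfl⟩

theorem mem_W_iff {n : ℕ} {g : H.left} :
    g ∈ W f n ↔ ∃ ε : Fin n → Bool, g ∈ Set.range (uw f n ε).left.base := by
  rw [W_eq, Set.mem_iUnion]

instance lft_P [LocallyOfFiniteType X.hom] (n : ℕ) : LocallyOfFiniteType (P X n).hom := by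
  induction n with
  | zero => change LocallyOfFiniteType (𝟙 S); infer_instance
  | succ n ih =>
    change LocallyOfFiniteType (X ⊗ P X n).hom
    rw [Over.tensorObj_hom]; infer_instance

instance lfp_P [LocallyOfFinitePresentation X.hom] (n : ℕ) :
    LocallyOfFinitePresentation (P X n).hom := by
  induction n with
  | zero => change LocallyOfFinitePresentation (𝟙 S); infer_instance
  | succ n ih =>
    change LocallyOfFinitePresentation (X ⊗ P X n).hom
    rw [Over.tensorObj_hom]; infer_instance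

instance qc_P [QuasiCompact X.hom] (n : ℕ) : QuasiCompact (P X n).hom := by
  induction n with
  | zero => change QuasiCompact (𝟙 S); infer_instance
  | succ n ih =>
    change QuasiCompact (X ⊗ P X n).hom
    rw [Over.tensorObj_hom]; infer_instance

instance flat_P [Flat X.hom] (n : ℕ) : Flat (P X n).hom := by
  induction n with
  | zero => change Flat (𝟙 S); infer_instance
  | succ n ih =>
    change Flat (X ⊗ P X n).hom
    rw [Over.tensorObj_hom]; infer_instance

end General

section AlgClosed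

open Groth.Agent.Sga3.H782.Points

attribute [local instance] top

variable {K : Type u} [Field K] [IsAlgClosed K]

/-- A rational point in the image of a morphism locally of finite type lifts to a rational point. -/
theorem exists_lift {P H : Over (Spec (CommRingCat.of K))} [LocallyOfFiniteType P.hom]
    [LocallyOfFiniteType H.hom] (φ : P ⟶ H) (g : Pts H) (hg : ev g ∈ Set.range φ.left.base) :
    ∃ p : Pts P, p ≫ φ = g := by
  have : JacobsonSpace P.left := LocallyOfFiniteType.jacobsonSpace P.hom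
  have h1 : ev g ∈ closedPoints H.left := by rw [← range_ev]; exact ⟨g, rfl⟩
  have h2 : IsClosed (φ.left.base ⁻¹' {ev g}) := IsClosed.preimage φ.left.continuous h1
  obtain ⟨p₀, hp₀⟩ := hg
  have h3 : (φ.left.base ⁻¹' {ev g} ∩ closedPoints P.left).Nonempty := by
    by_contra h
    rw [Set.not_nonempty_iff_eq_empty] at h
    have h4 := JacobsonSpace.closure_inter_closedPoints h2
    rw [h, closure_empty] at h4
    have : p₀ ∈ (∅ : Set P.left) := by rw [h4]; exact hp₀
    exact this
  obtain ⟨q, hq, hqc⟩ := h3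
  rw [← range_ev] at hqc
  obtain ⟨p, rfl⟩ := hqc
  refine ⟨p, ev_injective ?_⟩
  rw [ev_comp]
  exact hq

theorem mem_range_iff {P H : Over (Spec (CommRingCat.of K))} [LocallyOfFiniteType P.hom]
    [LocallyOfFiniteType H.hom] (φ : P ⟶ H) (g : Pts H) :
    ev g ∈ Set.range φ.left.base ↔ ∃ p : Pts P, p ≫ φ = g := by
  refine ⟨exists_lift φ g, ?_⟩
  rintro ⟨p, rfl⟩
  exact ⟨ev p, (ev_comp p φ).symm⟩

variable {X H : Over (Spec (CommRingCat.of K))} [GrpObj H] (f : X ⟶ H)

/-- The signed values of `f` at rational points. -/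
def Y : Set (Pts H) := {g | ∃ x : Pts X, g = x ≫ f ∨ g = (x ≫ f)⁻¹}

omit [IsAlgClosed K] in
theorem inv_Y : (Y f)⁻¹ = Y f := by
  ext g
  rw [Set.mem_inv]
  constructor
  · rintro ⟨x, hx | hx⟩
    · exact ⟨x, Or.inr (by rw [← hx, _root_.inv_inv])⟩
    · exact ⟨x, Or.inl (by rw [inv_inj] at hx; exact hx)⟩
  · rintro ⟨x, hx | hx⟩
    · exact ⟨x, Or.inr (by rw [hx])⟩
    · exact ⟨x, Or.inl (by rw [hx, _root_.inv_inv])⟩

variable [LocallyOfFiniteType X.hom] [LocallyOfFiniteType H.hom]

theorem ev_mem_W_iff (n : ℕ) (g : Pts H) : ev g ∈ W f n ↔ g ∈ Y f ^ n := by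
  rw [Set.mem_pow, mem_W_iff]
  constructor
  · rintro ⟨ε, hε⟩
    obtain ⟨p, hp⟩ := exists_lift _ _ hε
    rw [uw, comp_wv] at hp
    refine ⟨fun j => ⟨if ε j then (p ≫ pr X n j) ≫ f else ((p ≫ pr X n j) ≫ f)⁻¹,
      p ≫ pr X n j, ?_⟩, hp⟩
    by_cases h : ε j
    · simp [h]
    · simp [h]
  · rintro ⟨y, hy⟩
    have hy' : ∀ j, ∃ (x : Pts X) (b : Bool), ((y j : Y f) : Pts H) = if b then x ≫ f else (x ≫ f)⁻¹ := by
      intro j
      obtain ⟨x, hx | hx⟩ := (y j).2
      · exact ⟨x, true, by simpa using hx⟩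
      · exact ⟨x, false, by simpa using hx⟩
    choose x ε hxε using hy'
    obtain ⟨t, ht⟩ := exists_tuple x
    refine ⟨ε, ev t, ?_⟩
    rw [← ev_comp, uw, comp_wv]
    congr 1
    rw [← hy, wv]
    congr 2
    funext j
    rw [hxε j, ht j]

theorem preimage_W (n : ℕ) : (ev ⁻¹' (W f n) : Set (Pts H)) = Y f ^ n := by
  ext g; exact ev_mem_W_iff f n g

end AlgClosed

end K209.Words
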