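import Groth.Agent.SGA3.K209.WordSch
import Groth.Agent.Sga3C.ClosedSub
import Groth.Agent.Sga3C.GeomRed
import Groth.Agent.Sga3C.ActBase
import Groth.Agent.Sga3B.BcPts

/-!
# Words and base change; the smallest closed subgroup scheme as a set of words

* `W_bc`: the points lying under words of length `n` are compatible with base change;
* `range_eq`: if over an algebraically closed extension the words of length `N` form a closed subgroup,
  then the smallest closed subgroup through which `f` factors has underlying set `W f N`.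
-/

set_option autoImplicit false
universe u
open CategoryTheory CategoryTheory.Limits MonoidalCategory CartesianMonoidalCategory MonObj GrpObj
open AlgebraicGeometry TopologicalSpace Topology
open scoped Pointwise commutatorElement

namespace K209.WordBC

open K209.Words K209.WordSch Groth.Agent.Sga3.H782 Groth.Agent.Sga3.H782.Points
open Groth.Agent.Sga3B.BcPts (bcEquiv bcMulEquiv bcEquiv_symm_comp)

section BC

variable {S S' : Scheme.{u}} (σ : S' ⟶ S) {X G : Over S} [GrpObj G] (f : X ⟶ G)

theorem symm_wv {T : Over S'} {n : ℕ} (x : Fin n → (T ⟶ Red.bc σ X)) (ε : Fin n → Bool) :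
    (bcEquiv σ T G).symm (wv ((Over.pullback σ).map f) x ε) =
      wv f (fun j => (bcEquiv σ T X).symm (x j)) ε := by
  change (bcMulEquiv σ T G).symm _ = _
  rw [wv, wv, map_list_prod, List.map_ofFn]
  congr 2
  funext j
  simp only [Function.comp]
  by_cases h : ε j
  · simp only [h, if_true]
    exact bcEquiv_symm_comp σ (x j) f
  · simp only [h, Bool.false_eq_true, if_false, map_inv]
    congr 1
    exact bcEquiv_symm_comp σ (x j) f

theorem map_wv {T : Over S} {n : ℕ} (x : Fin n → (T ⟶ X)) (ε : Fin n → Bool) :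
    (Over.pullback σ).map (wv f x ε) =
      wv ((Over.pullback σ).map f) (fun j => (Over.pullback σ).map (x j)) ε := by
  induction n with
  | zero =>
    simp only [wv, List.ofFn_zero, List.prod_nil]
    exact Functor.map_one _
  | succ n ih =>
    have h := ih (fun j => x j.succ) (fun j => ε j.succ)
    rw [wv, wv, List.ofFn_succ, List.prod_cons, List.ofFn_succ, List.prod_cons, Functor.map_mul]
    congr 1
    by_cases h0 : ε 0
    · simp only [h0, if_true, Functor.map_comp]
    · simp only [h0, Bool.false_eq_true, if_false]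
      rw [← Functor.map_comp]
      exact Functor.map_inv' _ _

/-- The projection of the base change. -/
noncomputable abbrev pj (G : Over S) : (Red.bc σ G).left ⟶ G.left := pullback.fst G.hom σ

theorem bcEquiv_symm_left {T : Over S'} {Y : Over S} (y : T ⟶ Red.bc σ Y) :
    ((bcEquiv σ T Y).symm y).left = y.left ≫ pj σ Y := by
  simp [bcEquiv, Adjunction.homEquiv_counit]

theorem map_left_pj {Y Z : Over S} (φ : Y ⟶ Z) (q : (Red.bc σ Y).left) :
    (pj σ Z).base (((Over.pullback σ).map φ).left.base q) = φ.left.base ((pj σ Y).base q) := by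
  have h := (Groth.Agent.Sga3C.ActBase.isPullback_map_left σ φ).w
  have h2 := congrArg (fun (g : (Red.bc σ Y).left ⟶ Z.left) => g.base q) h
  simpa using h2

/-- The points lying under words of length `n` are compatible with base change. -/
theorem W_bc (n : ℕ) :
    W ((Over.pullback σ).map f) n = (pj σ G).base ⁻¹' W f n := by
  ext g
  constructor
  · rintro ⟨T, p, x, ε, rfl⟩
    refine ⟨(Over.map σ).obj T, p, fun j => (bcEquiv σ T X).symm (x j), ε, ?_⟩
    rw [← symm_wv, bcEquiv_symm_left]
    simp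
  · rintro ⟨T, p, x, ε, h⟩
    have hpb := Groth.Agent.Sga3C.ActBase.isPullback_map_left σ (wv f x ε)
    obtain ⟨p', hp1, hp2⟩ := Scheme.exists_preimage_of_isPullback hpb g p h.symm
    refine ⟨Red.bc σ T, p', fun j => (Over.pullback σ).map (x j), ε, ?_⟩
    rw [← map_wv]
    exact hp1

end BC

section Field

variable {k : Type u} [Field k]

instance geometricallyReduced_tensor (X Y : Over (Spec (CommRingCat.of k)))
    [GeometricallyReduced X.hom] [GeometricallyReduced Y.hom] :
    GeometricallyReduced (X ⊗ Y).hom :=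
  Groth.Agent.Sga3C.GeomRed.geometricallyReduced_pullback X.hom Y.hom

instance geometricallyReduced_P (X : Over (Spec (CommRingCat.of k))) [GeometricallyReduced X.hom]
    (n : ℕ) : GeometricallyReduced (P X n).hom := by
  induction n with
  | zero =>
    change GeometricallyReduced (𝟙 (Spec (CommRingCat.of k)))
    exact Groth.Agent.Sga3C.GeomRed.geometricallyReduced_of_isIso (𝟙 _)
  | succ n ih => exact geometricallyReduced_tensor X (P X n)

open Groth.Agent.Sga3C.ClosedSub Groth.Agent.Sga3C.GeomRed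

/-- A morphism with reduced source and image in a closed set factors through the reduced closed
subscheme. -/
theorem factors_of_isReduced {S : Scheme.{u}} {T G : Over S} [IsReduced T.left] (F : Closeds G.left)
    (h : T ⟶ G) (hr : Set.range h.left.base ⊆ F) :
    ∃ h' : T ⟶ sub G (Scheme.IdealSheafData.vanishingIdeal F),
      h' ≫ subι G (Scheme.IdealSheafData.vanishingIdeal F) = h := by
  rw [over_factors_iff, ker_subι]
  have h1 : Scheme.IdealSheafData.vanishingIdeal (.closure (Set.range h.left)) ≤ h.left.ker := by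
    rw [← Set.image_univ, ← TopologicalSpace.Closeds.coe_top,
      ← Scheme.IdealSheafData.map_vanishingIdeal, Scheme.IdealSheafData.vanishingIdeal_top,
      Scheme.nilradical_eq_bot, Scheme.IdealSheafData.map_bot]
  refine le_trans (Scheme.IdealSheafData.vanishingIdeal_antimono ?_) h1
  exact closure_minimal hr F.isClosed

theorem range_subι {S : Scheme.{u}} (G : Over S) (F : Closeds G.left) :
    Set.range (subι G (Scheme.IdealSheafData.vanishingIdeal F)).left.base = F := by
  rw [subι_left]
  have := (Scheme.IdealSheafData.vanishingIdeal F).range_subschemeι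
  rw [Scheme.IdealSheafData.coe_support_vanishingIdeal] at this
  exact this

/-- A family of geometrically reduced schemes covering a closed subset: there is a geometrically
reduced closed subscheme with this underlying set, through which every morphism from a geometrically
reduced scheme with image in the set factors. -/
theorem exists_geomRed {G : Over (Spec (CommRingCat.of k))} (F : Closeds G.left)
    (hF : ∀ g ∈ F, ∃ (T : Over (Spec (CommRingCat.of k))) (h : T ⟶ G), GeometricallyReduced T.hom ∧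
      Set.range h.left.base ⊆ F ∧ g ∈ Set.range h.left.base) :
    ∃ (Z : Over (Spec (CommRingCat.of k))) (i : Z ⟶ G), IsClosedImmersion i.left ∧
      GeometricallyReduced Z.hom ∧ Set.range i.left.base = F ∧
      ∀ (T : Over (Spec (CommRingCat.of k))) (h : T ⟶ G), GeometricallyReduced T.hom →
        Set.range h.left.base ⊆ F → ∃ h' : T ⟶ Z, h' ≫ i = h := by
  let Z₀ := sub G (Scheme.IdealSheafData.vanishingIdeal F)
  let i₀ : Z₀ ⟶ G := subι G (Scheme.IdealSheafData.vanishingIdeal F)
  let Z := sub Z₀ (grIdeal Z₀.hom)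
  let i₁ : Z ⟶ Z₀ := subι Z₀ (grIdeal Z₀.hom)
  have hfac : ∀ (T : Over (Spec (CommRingCat.of k))) (h : T ⟶ G), GeometricallyReduced T.hom →
        Set.range h.left.base ⊆ F → ∃ h' : T ⟶ Z, h' ≫ i₁ ≫ i₀ = h := by
    intro T h hT hr
    have hTr : IsReduced T.left := self_of_isIntegral_of_geometrically hT.geometrically_isReduced
    obtain ⟨h₀, hh₀⟩ := factors_of_isReduced F h hr
    have h2 : ∃ h' : T ⟶ Z, h' ≫ i₁ = h₀ := by
      rw [over_factors_iff, ker_subι]
      have : GeometricallyReduced (h₀.left ≫ Z₀.hom) := by rw [Over.w]; exact hT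
      exact grIdeal_le_ker Z₀.hom h₀.left
    obtain ⟨h', hh'⟩ := h2
    exact ⟨h', by rw [← Category.assoc, hh', hh₀]⟩
  refine ⟨Z, i₁ ≫ i₀, ?_, geometricallyReduced_grIdeal Z₀.hom, ?_, hfac⟩
  · rw [Over.comp_left]
    have h1 : IsClosedImmersion i₁.left := inferInstance
    have h2 : IsClosedImmersion i₀.left := inferInstance
    infer_instance
  · apply Set.Subset.antisymm
    · rintro _ ⟨z, rfl⟩
      rw [← range_subι G F]
      exact ⟨i₁.left.base z, (Groth.Agent.Sga3C.HomogIrr.comp_left_apply i₁ i₀ z).symm⟩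
    · intro g hg
      obtain ⟨T, h, hT, hr, t, rfl⟩ := hF g hg
      obtain ⟨h', rfl⟩ := hfac T h hT hr
      exact ⟨h'.left.base t, (Groth.Agent.Sga3C.HomogIrr.comp_left_apply h' (i₁ ≫ i₀) t).symm⟩

/-- The closed sets of `G` over which the rational points over an algebraically closed extension form a
subgroup are stable under products and inverses. -/
structure IsSubgrpSet {K : Type u} [Field K] [IsAlgClosed K]
    (σ : Spec (CommRingCat.of K) ⟶ Spec (CommRingCat.of k))
    (G : Over (Spec (CommRingCat.of k))) [GrpObj G] (F : Set G.left) : Prop where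
  closed : IsClosed F
  one : ev (1 : Pts (Red.bc σ G)) ∈ (pj σ G).base ⁻¹' F
  mul : ∀ x y : Pts (Red.bc σ G), ev x ∈ (pj σ G).base ⁻¹' F → ev y ∈ (pj σ G).base ⁻¹' F →
    ev (x * y) ∈ (pj σ G).base ⁻¹' F
  inv : ∀ x : Pts (Red.bc σ G), ev x ∈ (pj σ G).base ⁻¹' F → ev x⁻¹ ∈ (pj σ G).base ⁻¹' F

variable {K : Type u} [Field K] [IsAlgClosed K]
  (σ : Spec (CommRingCat.of K) ⟶ Spec (CommRingCat.of k))

omit [IsAlgClosed K] in
theorem pj_surjective (G : Over (Spec (CommRingCat.of k))) : Function.Surjective (pj σ G).base := by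
  have h1 : Surjective σ := ⟨fun x => ⟨IsLocalRing.closedPoint K, Subsingleton.elim (α := PrimeSpectrum k) _ _⟩⟩
  have : Surjective (pj σ G) := inferInstance
  exact this.surj

omit [IsAlgClosed K] in
theorem pj_isOpenMap (G : Over (Spec (CommRingCat.of k))) : IsOpenMap (pj σ G).base := by
  have : UniversallyOpen σ := inferInstance
  exact (pullback.fst G.hom σ).isOpenMap

omit [IsAlgClosed K] in
theorem isClosed_iff (G : Over (Spec (CommRingCat.of k))) (F : Set G.left) :
    IsClosed ((pj σ G).base ⁻¹' F) ↔ IsClosed F :=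
  ((pj_isOpenMap σ G).isQuotientMap (pj σ G).continuous (pj_surjective σ G)).isClosed_preimage

instance lft_bc (G : Over (Spec (CommRingCat.of k))) [LocallyOfFiniteType G.hom] :
    LocallyOfFiniteType (Red.bc σ G).hom :=
  inferInstanceAs (LocallyOfFiniteType (pullback.snd G.hom σ))

instance qc_bc (G : Over (Spec (CommRingCat.of k))) [QuasiCompact G.hom] :
    QuasiCompact (Red.bc σ G).hom :=
  inferInstanceAs (QuasiCompact (pullback.snd G.hom σ))

/-- Containment in a closed set may be tested on rational points over an algebraically closed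
extension. -/
theorem range_subset_of_pts {Q G : Over (Spec (CommRingCat.of k))} [LocallyOfFiniteType Q.hom]
    (φ : Q ⟶ G) {F : Set G.left} (hF : IsClosed F)
    (h : ∀ t : Pts (Red.bc σ Q), ev (t ≫ (Over.pullback σ).map φ) ∈ (pj σ G).base ⁻¹' F) :
    Set.range φ.left.base ⊆ F := by
  rintro _ ⟨q, rfl⟩
  obtain ⟨q', rfl⟩ := pj_surjective σ Q q
  rw [← map_left_pj]
  change ((Over.pullback σ).map φ).left.base q' ∈ (pj σ G).base ⁻¹' F
  have hcl : IsClosed (((Over.pullback σ).map φ).left.base ⁻¹' ((pj σ G).base ⁻¹' F)) :=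
    (hF.preimage (pj σ G).continuous).preimage ((Over.pullback σ).map φ).left.continuous
  have hJ : JacobsonSpace (Red.bc σ Q).left := LocallyOfFiniteType.jacobsonSpace (Red.bc σ Q).hom
  have h1 : closedPoints (Red.bc σ Q).left ⊆
      ((Over.pullback σ).map φ).left.base ⁻¹' ((pj σ G).base ⁻¹' F) := by
    intro z hz
    rw [← range_ev] at hz
    obtain ⟨t, rfl⟩ := hz
    have := h t
    rw [ev_comp] at this
    exact this
  have h2 : q' ∈ closure (closedPoints (Red.bc σ Q).left) := by
    rw [closure_closedPoints]; trivial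
  exact (closure_minimal h1 hcl) h2

variable {σ} {G : Over (Spec (CommRingCat.of k))} [GrpObj G] {F : Set G.left}

theorem IsSubgrpSet.range_mul (hF : IsSubgrpSet σ G F) {Q : Over (Spec (CommRingCat.of k))}
    [LocallyOfFiniteType Q.hom] (a b : Q ⟶ G) (ha : Set.range a.left.base ⊆ F)
    (hb : Set.range b.left.base ⊆ F) : Set.range (a * b).left.base ⊆ F := by
  refine range_subset_of_pts σ _ hF.closed fun t => ?_
  rw [Functor.map_mul, MonObj.comp_mul]
  apply hF.mul
  · rw [ev_comp, Set.mem_preimage, map_left_pj]; exact ha ⟨_, rfl⟩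
  · rw [ev_comp, Set.mem_preimage, map_left_pj]; exact hb ⟨_, rfl⟩

theorem IsSubgrpSet.range_inv (hF : IsSubgrpSet σ G F) {Q : Over (Spec (CommRingCat.of k))}
    [LocallyOfFiniteType Q.hom] (a : Q ⟶ G) (ha : Set.range a.left.base ⊆ F) :
    Set.range (a⁻¹).left.base ⊆ F := by
  refine range_subset_of_pts σ _ hF.closed fun t => ?_
  have e : (Over.pullback σ).map a⁻¹ = ((Over.pullback σ).map a)⁻¹ := Functor.map_inv' _ _
  rw [e, GrpObj.comp_inv]
  apply hF.inv
  rw [ev_comp, Set.mem_preimage, map_left_pj]; exact ha ⟨_, rfl⟩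

theorem IsSubgrpSet.range_one (hF : IsSubgrpSet σ G F) {Q : Over (Spec (CommRingCat.of k))}
    [LocallyOfFiniteType Q.hom] : Set.range (1 : Q ⟶ G).left.base ⊆ F := by
  refine range_subset_of_pts σ _ hF.closed fun t => ?_
  rw [Functor.map_one, MonObj.comp_one]
  exact hF.one

/-- A subgroup set covered by geometrically reduced schemes underlies a geometrically reduced closed
subgroup scheme. -/
theorem IsSubgrpSet.exists_grp [LocallyOfFiniteType G.hom] (hF : IsSubgrpSet σ G F)
    (hcov : ∀ g ∈ F, ∃ (T : Over (Spec (CommRingCat.of k))) (h : T ⟶ G), GeometricallyReduced T.hom ∧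
      Set.range h.left.base ⊆ F ∧ g ∈ Set.range h.left.base) :
    ∃ (Z : Over (Spec (CommRingCat.of k))) (_ : GrpObj Z) (i : Z ⟶ G), IsMonHom i ∧
      IsClosedImmersion i.left ∧ GeometricallyReduced Z.hom ∧ Set.range i.left.base = F ∧
      ∀ (T : Over (Spec (CommRingCat.of k))) (h : T ⟶ G), GeometricallyReduced T.hom →
        Set.range h.left.base ⊆ F → ∃ h' : T ⟶ Z, h' ≫ i = h := by
  obtain ⟨Z, i, hi, hZ, hr, hfac⟩ := exists_geomRed (G := G) ⟨F, hF.closed⟩ hcov
  have hr' : Set.range i.left.base = F := hr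
  have hmono : Mono i := mono_of_left i
  have hlft : LocallyOfFiniteType Z.hom := by
    rw [← Over.w i]; infer_instance
  have hfst : Set.range (fst Z Z ≫ i).left.base ⊆ F := by
    rintro _ ⟨q, rfl⟩
    rw [← hr', Groth.Agent.Sga3C.HomogIrr.comp_left_apply]
    exact ⟨_, rfl⟩
  have hsnd : Set.range (snd Z Z ≫ i).left.base ⊆ F := by
    rintro _ ⟨q, rfl⟩
    rw [← hr', Groth.Agent.Sga3C.HomogIrr.comp_left_apply]
    exact ⟨_, rfl⟩
  have hlftZZ : LocallyOfFiniteType (Z ⊗ Z).hom := by
    rw [Over.tensorObj_hom]; infer_instance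
  obtain ⟨hG, hmon⟩ : ∃ _ : GrpObj Z, IsMonHom i := by
    apply exists_grpObj_of_mono
    · have e : η[G] = (1 : 𝟙_ (Over (Spec (CommRingCat.of k))) ⟶ G) := by
        rw [Hom.one_def, toUnit_unit, Category.id_comp]
      rw [e]
      have : LocallyOfFiniteType (𝟙_ (Over (Spec (CommRingCat.of k)))).hom := by
        change LocallyOfFiniteType (𝟙 _)
        infer_instance
      exact hfac _ _ (geometricallyReduced_of_isIso (𝟙 _)) hF.range_one
    · have e : (i ⊗ₘ i) ≫ μ[G] = (fst Z Z ≫ i) * (snd Z Z ≫ i) := by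
        rw [Hom.mul_def]
        congr 1
      rw [e]
      exact hfac _ _ (geometricallyReduced_tensor Z Z) (hF.range_mul _ _ hfst hsnd)
    · have e : i ≫ ι[G] = i⁻¹ := by rw [Hom.inv_def]
      rw [e]
      exact hfac _ _ hZ (hF.range_inv _ hr'.le)
  exact ⟨Z, hG, i, hmon, hi, hZ, hr', hfac⟩

theorem isSubgrpSet_W {X : Over (Spec (CommRingCat.of k))} [LocallyOfFiniteType X.hom]
    [LocallyOfFiniteType G.hom] (f : X ⟶ G) {N : ℕ}
    (hcl : IsClosed (W ((Over.pullback σ).map f) N))
    (hsub : (Y ((Over.pullback σ).map f) ^ N : Set (Pts (Red.bc σ G))) =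
      (Subgroup.closure (Y ((Over.pullback σ).map f)) : Set (Pts (Red.bc σ G)))) :
    IsSubgrpSet σ G (W f N) := by
  have key : ∀ x : Pts (Red.bc σ G), ev x ∈ (pj σ G).base ⁻¹' W f N ↔
      x ∈ Subgroup.closure (Y ((Over.pullback σ).map f)) := by
    intro x
    rw [← W_bc, ev_mem_W_iff, hsub]
    rfl
  refine ⟨?_, ?_, ?_, ?_⟩
  · rw [← isClosed_iff σ, ← W_bc]; exact hcl
  · rw [key]; exact one_mem _
  · intro x y hx hy
    rw [key] at hx hy ⊢
    exact mul_mem hx hy
  · intro x hx
    rw [key] at hx ⊢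
    exact inv_mem hx

theorem cover_W {X : Over (Spec (CommRingCat.of k))} [GeometricallyReduced X.hom] (f : X ⟶ G) (N : ℕ) :
    ∀ g ∈ W f N, ∃ (T : Over (Spec (CommRingCat.of k))) (h : T ⟶ G), GeometricallyReduced T.hom ∧
      Set.range h.left.base ⊆ W f N ∧ g ∈ Set.range h.left.base := by
  intro g hg
  rw [mem_W_iff] at hg
  obtain ⟨ε, hε⟩ := hg
  refine ⟨P X N, uw f N ε, inferInstance, ?_, hε⟩
  intro g' hg'
  rw [mem_W_iff]
  exact ⟨ε, hg'⟩

/-- Words factor through every subgroup through which `f` factors. -/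
theorem W_subset_range {S : Scheme.{u}} {X G Γ : Over S} [GrpObj G] [GrpObj Γ] (f : X ⟶ G) (i : Γ ⟶ G)
    [IsMonHom i] (hf : ∃ f' : X ⟶ Γ, f' ≫ i = f) (n : ℕ) : W f n ⊆ Set.range i.left.base := by
  obtain ⟨f', rfl⟩ := hf
  rintro _ ⟨T, p, x, ε, rfl⟩
  rw [← wv_comp_hom]
  exact ⟨(wv f' x ε).left.base p, (Groth.Agent.Sga3C.HomogIrr.comp_left_apply _ i p).symm⟩

/-- **The smallest closed subgroup as a set of words.** -/
theorem range_eq {X : Over (Spec (CommRingCat.of k))} [GeometricallyReduced X.hom]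
    [LocallyOfFiniteType G.hom] (f : X ⟶ G) {N : ℕ} (hF : IsSubgrpSet σ G (W f N))
    (hfN : Set.range f.left.base ⊆ W f N)
    (Γ : Over (Spec (CommRingCat.of k))) [GrpObj Γ] (i : Γ ⟶ G) [IsMonHom i] [IsClosedImmersion i.left]
    (hf : ∃ f' : X ⟶ Γ, f' ≫ i = f)
    (hmin : ∀ (Γ' : Over (Spec (CommRingCat.of k))) (_ : GrpObj Γ') (i' : Γ' ⟶ G), IsMonHom i' →
      IsClosedImmersion i'.left → (∃ f'' : X ⟶ Γ', f'' ≫ i' = f) → ∃ j : Γ ⟶ Γ', j ≫ i' = i) :
    Set.range i.left.base = W f N := by
  apply Set.Subset.antisymm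
  · obtain ⟨Z, hZ, i', hi', hc, hg, hr, hfac⟩ := hF.exists_grp (cover_W f N)
    obtain ⟨j, rfl⟩ := hmin Z hZ i' hi' hc (hfac X f inferInstance hfN)
    rintro _ ⟨z, rfl⟩
    rw [Groth.Agent.Sga3C.HomogIrr.comp_left_apply, ← hr]
    exact ⟨_, rfl⟩
  · exact W_subset_range f i hf N

end Field

section Mono

variable {S : Scheme.{u}} {X G : Over S} [GrpObj G] (f : X ⟶ G)

/-- If the unit section is a value of `f` then the sets of words increase with the length. -/
theorem W_subset_succ (x₀ : 𝟙_ (Over S) ⟶ X) (hx₀ : x₀ ≫ f = 1) (n : ℕ) : W f n ⊆ W f (n + 1) := by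
  rintro _ ⟨T, p, x, ε, rfl⟩
  refine ⟨T, p, Fin.cons (toUnit T ≫ x₀) x, Fin.cons true ε, ?_⟩
  have e : wv f (Fin.cons (toUnit T ≫ x₀) x : Fin (n + 1) → (T ⟶ X)) (Fin.cons true ε) =
      wv f x ε := by
    rw [wv, List.ofFn_succ, List.prod_cons]
    simp only [Fin.cons_zero, Fin.cons_succ, if_true, Category.assoc, hx₀, MonObj.comp_one, _root_.one_mul]
    rfl
  rw [e]

theorem W_mono (x₀ : 𝟙_ (Over S) ⟶ X) (hx₀ : x₀ ≫ f = 1) {m n : ℕ} (h : m ≤ n) :
    W f m ⊆ W f n := by
  induction h with
  | refl => exact subset_rfl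
  | step _ ih => exact ih.trans (W_subset_succ f x₀ hx₀ _)

theorem range_subset_W_one : Set.range f.left.base ⊆ W f 1 := by
  rintro _ ⟨x, rfl⟩
  refine ⟨X, x, fun _ => 𝟙 X, fun _ => true, ?_⟩
  simp [wv]

end Mono

section IdCase

variable {K : Type u} [Field K] [IsAlgClosed K] {G : Over (Spec (CommRingCat.of K))}

/-- The trivial base change. -/
noncomputable def unitIso : 𝟙_ (Over (Spec (CommRingCat.of K))) ≅
    (Over.map (𝟙 (Spec (CommRingCat.of K)))).obj (𝟙_ (Over (Spec (CommRingCat.of K)))) :=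
  Over.isoMk (Iso.refl _) (by simp)

/-- Points of the trivial base change. -/
noncomputable def idPt (G : Over (Spec (CommRingCat.of K)))
    (x : Pts (Red.bc (𝟙 (Spec (CommRingCat.of K))) G)) : Pts G :=
  unitIso.hom ≫ (bcEquiv (𝟙 (Spec (CommRingCat.of K))) (𝟙_ _) G).symm x

omit [IsAlgClosed K] in
theorem ev_idPt (x : Pts (Red.bc (𝟙 (Spec (CommRingCat.of K))) G)) :
    ev (idPt G x) = (pj (𝟙 (Spec (CommRingCat.of K))) G).base (ev x) := by
  have h : (idPt G x).left = x.left ≫ pj (𝟙 (Spec (CommRingCat.of K))) G := by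
    rw [idPt, Over.comp_left, bcEquiv_symm_left]
    exact Category.id_comp _
  rw [ev, h]
  rfl

variable [GrpObj G]

omit [IsAlgClosed K] in
theorem idPt_mul (x y : Pts (Red.bc (𝟙 (Spec (CommRingCat.of K))) G)) :
    idPt G (x * y) = idPt G x * idPt G y := by
  have h := (bcMulEquiv (𝟙 (Spec (CommRingCat.of K))) (𝟙_ _) G).symm.map_mul x y
  have h' : (bcEquiv (𝟙 (Spec (CommRingCat.of K))) (𝟙_ _) G).symm (x * y) = _ := h
  rw [idPt, h', MonObj.comp_mul]
  rfl

/-- The points of the trivial base change, as a homomorphism. -/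
noncomputable def idHom (G : Over (Spec (CommRingCat.of K))) [GrpObj G] :
    Pts (Red.bc (𝟙 (Spec (CommRingCat.of K))) G) →* Pts G :=
  MonoidHom.mk' (idPt G) idPt_mul

theorem isSubgrpSet_id {F : Set G.left} (hF : IsClosed F) (h1 : ev (1 : Pts G) ∈ F)
    (hmul : ∀ x y : Pts G, ev x ∈ F → ev y ∈ F → ev (x * y) ∈ F)
    (hinv : ∀ x : Pts G, ev x ∈ F → ev x⁻¹ ∈ F) :
    IsSubgrpSet (𝟙 (Spec (CommRingCat.of K))) G F := by
  refine ⟨hF, ?_, ?_, ?_⟩
  · rw [Set.mem_preimage, ← ev_idPt]
    have : idPt G 1 = 1 := map_one (idHom G)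
    rwa [this]
  · intro x y hx hy
    rw [Set.mem_preimage, ← ev_idPt] at *
    have : idPt G (x * y) = idPt G x * idPt G y := map_mul (idHom G) x y
    rw [this]
    exact hmul _ _ hx hy
  · intro x hx
    rw [Set.mem_preimage, ← ev_idPt] at *
    have : idPt G x⁻¹ = (idPt G x)⁻¹ := map_inv (idHom G) x
    rw [this]
    exact hinv _ hx

end IdCase

end K209.WordBC
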