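import Groth.Agent.SGA3.K209.GenSys
import Groth.Agent.SGA3.K209.WordComm
import Groth.Agent.Ega4fib.H149.FibreTopLoc

/-!
# Spreading out from the generic point
-/

set_option autoImplicit false
universe u
open CategoryTheory CategoryTheory.Limits MonoidalCategory CartesianMonoidalCategory MonObj GrpObj
open AlgebraicGeometry TopologicalSpace Topology

namespace K209.Spread

open K209.Words K209.WordBC K209.GenSys Groth.Agent.Ega43.LimitDescend

section Constr

/-- A locally constructible set not containing the generic point misses an open neighbourhood. -/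
theorem exists_open_disjoint {X : Type*} [TopologicalSpace X] [IrreducibleSpace X] [QuasiSober X] {T : Set X}
    (hT : IsLocallyConstructible T) (h : genericPoint X ∉ T) :
    ∃ U : Opens X, genericPoint X ∈ U ∧ ∀ x ∈ U, x ∉ T := by
  obtain ⟨V, hVn, hVo, hVc⟩ := hT (genericPoint X)
  have hηV : genericPoint X ∈ V := mem_of_mem_nhds hVn
  have hirr : IsIrreducible (Set.univ : Set V) := by
    have h1 : IsIrreducible V := by
      refine ⟨⟨_, hηV⟩, ?_⟩
      exact (IrreducibleSpace.isIrreducible_univ X).2.open_subset hVo (Set.subset_univ _)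
    have h2 : IrreducibleSpace V := Subtype.irreducibleSpace h1
    exact IrreducibleSpace.isIrreducible_univ V
  rcases Groth.Agent.Ega3A.ConstrTopBasic.dichotomy hVc hirr with ⟨O, hO, hne, hsub⟩ | ⟨O, hO, hne, hsub⟩
  · exfalso
    obtain ⟨O', hO', rfl⟩ := isOpen_induced_iff.mp hO
    obtain ⟨x, hx, -⟩ := hne
    have h3 : genericPoint X ∈ O' :=
      ((genericPoint_spec X).mem_open_set_iff hO').mpr ⟨x.1, trivial, hx⟩
    exact h (hsub (a := ⟨_, hηV⟩) ⟨h3, trivial⟩)
  · obtain ⟨O', hO', rfl⟩ := isOpen_induced_iff.mp hO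
    obtain ⟨x, hx, -⟩ := hne
    have h3 : genericPoint X ∈ O' :=
      ((genericPoint_spec X).mem_open_set_iff hO').mpr ⟨x.1, trivial, hx⟩
    exact ⟨⟨O' ∩ V, hO'.inter hVo⟩, ⟨h3, hηV⟩, fun y hy hyT => hsub (a := ⟨y, hy.2⟩) ⟨hy.1, trivial⟩ hyT⟩

variable {S : Scheme.{u}}

/-- The image of a morphism of objects of finite presentation is locally constructible. -/
theorem isLocallyConstructible_range {P Q : Over S} [LocallyOfFinitePresentation P.hom] [QuasiCompact P.hom]
    [LocallyOfFiniteType Q.hom] [QuasiSeparated Q.hom] (φ : P ⟶ Q) :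
    IsLocallyConstructible (Set.range φ.left.base) := by
  have h2 : LocallyOfFinitePresentation φ.left := by
    have : LocallyOfFinitePresentation (φ.left ≫ Q.hom) := by rw [Over.w]; infer_instance
    exact Groth.Agent.Ega43.FPOfComp.locallyOfFinitePresentation_of_comp φ.left Q.hom
  have h3 : QuasiCompact φ.left := by
    have : QuasiCompact (φ.left ≫ Q.hom) := by rw [Over.w]; infer_instance
    exact QuasiCompact.of_comp φ.left Q.hom
  rw [← Set.image_univ]
  exact φ.left.isLocallyConstructible_image IsLocallyConstructible.univ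

theorem isLocallyConstructible_W {X G : Over S} [GrpObj G] [LocallyOfFinitePresentation X.hom]
    [QuasiCompact X.hom] [LocallyOfFiniteType G.hom] [QuasiSeparated G.hom] (f : X ⟶ G) (n : ℕ) :
    IsLocallyConstructible (W f n) := by
  rw [W_eq]
  exact IsLocallyConstructible.iUnion fun ε => isLocallyConstructible_range _

/-- A locally constructible set containing the generic fibre contains the fibres over an open
neighbourhood of the generic point. -/
theorem exists_open_fibre [IrreducibleSpace S] (X : Over S) [LocallyOfFinitePresentation X.hom]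
    [QuasiCompact X.hom] {E : Set X.left} (hE : IsLocallyConstructible E)
    (h : ∀ x : X.left, X.hom.base x = genericPoint S → x ∈ E) :
    ∃ U : S.Opens, genericPoint S ∈ U ∧ ∀ x : X.left, X.hom.base x ∈ U → x ∈ E := by
  have hEc : IsLocallyConstructible Eᶜ := fun x => by
    obtain ⟨U, hU, ho, hc⟩ := hE x
    exact ⟨U, hU, ho, hc.compl⟩
  have h1 : IsLocallyConstructible (X.hom.base '' Eᶜ) := X.hom.isLocallyConstructible_image hEc
  obtain ⟨U, hU, hdis⟩ := exists_open_disjoint h1 (by
    rintro ⟨x, hx, hxe⟩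
    exact hx (h x hxe))
  refine ⟨U, hU, fun x hx => ?_⟩
  by_contra hcon
  exact hdis _ hx ⟨x, hcon, rfl⟩

theorem range_map {S' : Scheme.{u}} (σ : S' ⟶ S) {X G : Over S} (f : X ⟶ G) :
    Set.range ((Over.pullback σ).map f).left.base = (pj σ G).base ⁻¹' Set.range f.left.base := by
  ext g
  constructor
  · rintro ⟨x, rfl⟩
    exact ⟨_, (map_left_pj σ f x).symm⟩
  · rintro ⟨x, hx⟩
    obtain ⟨p', hp1, hp2⟩ := Scheme.exists_preimage_of_isPullback
      (Groth.Agent.Sga3C.ActBase.isPullback_map_left σ f) g x hx.symm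
    exact ⟨p', hp1⟩

/-- The points of a base change along a morphism with range in `U` lie over `U`. -/
theorem hom_pj {S' : Scheme.{u}} (σ : S' ⟶ S) (X : Over S) (y : (Red.bc σ X).left) :
    X.hom.base ((pj σ X).base y) = σ.base ((Red.bc σ X).hom.base y) := by
  have h : pj σ X ≫ X.hom = (Red.bc σ X).hom ≫ σ := pullback.condition
  have h2 := congrArg (fun g : (Red.bc σ X).left ⟶ S => g.base y) h
  simpa using h2

theorem exists_pj {S' : Scheme.{u}} (σ : S' ⟶ S) (X : Over S) (x : X.left) (s : S')
    (h : X.hom.base x = σ.base s) : ∃ y : (Red.bc σ X).left, (pj σ X).base y = x := by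
  obtain ⟨y, hy, -⟩ := Scheme.Pullback.exists_preimage_pullback x s h
  exact ⟨y, hy⟩

end Constr

section Sys

variable {S : Scheme.{u}} [IsIntegral S]

omit [IsIntegral S] in
theorem mem_range_fromSpec (x : S) : ∃ s, (S.fromSpecResidueField x).base s = x := by
  have : x ∈ Set.range (S.fromSpecResidueField x) := by
    rw [Scheme.range_fromSpecResidueField]; rfl
  exact this

theorem genericPoint_mem_opensRange (𝒮 : Sys S) (j : 𝒮.J) : genericPoint S ∈ (𝒮.t j).opensRange := by
  obtain ⟨s, hs⟩ := mem_range_fromSpec (genericPoint S)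
  refine ⟨(𝒮.π.app j).base s, ?_⟩
  have h := congrArg (fun g : Spec (S.residueField (genericPoint S)) ⟶ S => g.base s) (𝒮.fac j)
  simp only [Scheme.Hom.comp_base, TopCat.hom_comp, ContinuousMap.comp_apply] at h
  exact h.trans hs

/-- A property which descends along limits spreads out. -/
theorem spread_prop {P : MorphismProperty Scheme.{u}} [P.IsStableUnderBaseChange] (hP : DescendsLim P)
    (X : Over S) [LocallyOfFinitePresentation X.hom] [QuasiCompact X.hom] [QuasiSeparated X.hom]
    (h : P (Red.bc (S.fromSpecResidueField (genericPoint S)) X).hom) :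
    ∃ U : S.Opens, genericPoint S ∈ U ∧ ∀ (T : Scheme.{u}) (g : T ⟶ S), Set.range g.base ⊆ U →
      P (Red.bc g X).hom := by
  have := MorphismProperty.IsStableUnderBaseChange.respectsIso (P := P)
  obtain ⟨𝒮⟩ := exists_sys S
  obtain ⟨j, hj⟩ := hP 𝒮.E 𝒮.cone 𝒮.lim 𝒮.t (fun φ => 𝒮.w φ) X.hom
    (S.fromSpecResidueField (genericPoint S)) (fun j => 𝒮.fac j) _ _
    (IsPullback.of_hasPullback X.hom (S.fromSpecResidueField (genericPoint S))) h
  refine ⟨(𝒮.t j).opensRange, genericPoint_mem_opensRange 𝒮 j, fun T g hg => ?_⟩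
  let l : T ⟶ 𝒮.E.obj j := IsOpenImmersion.lift (𝒮.t j) g hg
  have hl : l ≫ 𝒮.t j = g := IsOpenImmersion.lift_fac _ _ _
  have h1 : IsPullback (pullback.fst X.hom g) (pullback.snd X.hom g) X.hom (l ≫ 𝒮.t j) := by
    rw [hl]; exact .of_hasPullback _ _
  have h2 : IsPullback (pullback.lift (pullback.fst X.hom g) (pullback.snd X.hom g ≫ l)
      (by rw [Category.assoc, hl, pullback.condition])) (pullback.snd X.hom g)
      (pullback.snd X.hom (𝒮.t j)) l := by
    refine IsPullback.of_right (h₁₂ := pullback.fst X.hom (𝒮.t j)) (h₂₂ := 𝒮.t j) (v₁₃ := X.hom) ?_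
      (pullback.lift_snd _ _ _) (.of_hasPullback _ _)
    rw [pullback.lift_fst]
    exact h1
  exact P.of_isPullback h2 hj

end Sys

end K209.Spread
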