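import Groth.Agent.SGA3.K209.CommFld
import Groth.Agent.SGA3.K209.Spread
import Groth.Agent.Flat2B.SmoothGeom
import Groth.Agent.S3036
import Groth.Agent.Sga3.H515.LimSmooth

/-!
# Commutators of subgroup schemes with smooth generic fibres
-/

set_option autoImplicit false
universe u
open CategoryTheory CategoryTheory.Limits MonoidalCategory CartesianMonoidalCategory MonObj GrpObj
open AlgebraicGeometry TopologicalSpace Topology
open scoped commutatorElement

namespace K209.CommImm

open K209.Words K209.WordSch K209.WordBC K209.WordConn K209.WordNorm K209.WordComm K209.CommFld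
open K209.Spread

section Basic

variable {S : Scheme.{u}}

theorem mono_of_isImmersion {G H : Over S} (h : H ⟶ G) [IsImmersion h.left] : Mono h :=
  (Over.forget S).mono_of_mono_map (inferInstanceAs (Mono h.left))

theorem quasiCompact_left {G H : Over S} (h : H ⟶ G) [QuasiCompact H.hom] [QuasiSeparated G.hom] :
    QuasiCompact h.left := by
  have : QuasiCompact (h.left ≫ G.hom) := by rw [Over.w]; infer_instance
  exact QuasiCompact.of_comp h.left G.hom

theorem quasiCompact_map {S' : Scheme.{u}} (σ : S' ⟶ S) {G H : Over S} (h : H ⟶ G) [QuasiCompact h.left] :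
    QuasiCompact ((Over.pullback σ).map h).left :=
  MorphismProperty.of_isPullback (Groth.Agent.Sga3C.ActBase.isPullback_map_left σ h).flip inferInstance

theorem mono_map {S' : Scheme.{u}} (σ : S' ⟶ S) {G H : Over S} (h : H ⟶ G) [Mono h] :
    Mono ((Over.pullback σ).map h) := inferInstance

/-- A homomorphism which is a quasi-compact monomorphism is a closed immersion on every fibre. -/
theorem isClosedImmersion_map {k : Type u} [Field k] (σ : Spec (CommRingCat.of k) ⟶ S) {G H : Over S}
    [GrpObj G] [GrpObj H] [LocallyOfFiniteType G.hom] [LocallyOfFiniteType H.hom]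
    (h : H ⟶ G) [IsMonHom h] [Mono h] [QuasiCompact h.left] :
    IsClosedImmersion ((Over.pullback σ).map h).left := by
  have h1 := quasiCompact_map σ h
  have h2 := mono_map σ h
  have h3 : LocallyOfFiniteType (Red.bc σ G).hom :=
    inferInstanceAs (LocallyOfFiniteType (pullback.snd G.hom σ))
  have h4 : LocallyOfFiniteType (Red.bc σ H).hom :=
    inferInstanceAs (LocallyOfFiniteType (pullback.snd H.hom σ))
  exact Groth.Agent.S3036.result k _ _ ((Over.pullback σ).map h)

end Basic

/-- In a group over a field whose commutator subgroup with a normal subgroup is everything. -/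
theorem range_subset_W {k : Type u} [Field k] (G H : Over (Spec (CommRingCat.of k))) [GrpObj G] [GrpObj H]
    [LocallyOfFiniteType G.hom] [QuasiCompact G.hom] [QuasiCompact H.hom] (h : H ⟶ G) [IsMonHom h]
    [IsClosedImmersion h.left] [GeometricallyReduced G.hom] [GeometricallyReduced H.hom]
    (hN : AlgGrp.IsNormalHom h)
    (hgen : ∀ (K : Over (Spec (CommRingCat.of k))) (_ : GrpObj K) (j : K ⟶ G), IsMonHom j →
      IsClosedImmersion j.left → (∃ c : G ⊗ H ⟶ K, c ≫ j = comm (𝟙 G) h) → ∃ m : H ⟶ K, m ≫ j = h) :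
    ∃ N : ℕ, Set.range h.left.base ⊆ W (comm (𝟙 G) h) N := by
  have h0 : IsClosedImmersion (𝟙 G : G ⟶ G).left := inferInstanceAs (IsClosedImmersion (𝟙 G.left))
  have h1 : AlgGrp.IsNormalHom (𝟙 G) := fun T g n => ⟨g * n * g⁻¹, by simp⟩
  obtain ⟨D, hD, d, c, N, δ, hd, hcl, hc, hsm, hqc, hsurj, -, -⟩ :=
    exists_comm_field G G H (𝟙 G) h (Or.inl ⟨h1, hN, inferInstance⟩)
  obtain ⟨m, hm⟩ := hgen D hD d hd hcl ⟨c, hc⟩
  refine ⟨N, ?_⟩
  rintro _ ⟨x, rfl⟩
  obtain ⟨y, hy⟩ := hsurj.surj (m.left.base x)
  rw [mem_W_iff]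
  refine ⟨δ, y, ?_⟩
  rw [← hc, ← uw_comp_hom, Groth.Agent.Sga3C.HomogIrr.comp_left_apply]
  rw [hm.symm, Groth.Agent.Sga3C.HomogIrr.comp_left_apply]
  exact congrArg _ hy

/-- **Spreading out of `(G, H) = H`.** -/
theorem exists_open_comm (S : Scheme.{u}) [IsIntegral S] (G H : Over S) [GrpObj G] [GrpObj H]
    [LocallyOfFinitePresentation G.hom] [QuasiCompact G.hom] [QuasiSeparated G.hom]
    [LocallyOfFinitePresentation H.hom] [QuasiCompact H.hom] [QuasiSeparated H.hom]
    (h : H ⟶ G) [IsMonHom h] [IsImmersion h.left] (hN : AlgGrp.IsNormalHom h)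
    (hsmG : Smooth (Red.bc (S.fromSpecResidueField (genericPoint S)) G).hom)
    (hsmH : Smooth (Red.bc (S.fromSpecResidueField (genericPoint S)) H).hom)
    (hgen : ∀ (K : Over (Spec (S.residueField (genericPoint S)))) (_ : GrpObj K)
      (j : K ⟶ (Red.bc (S.fromSpecResidueField (genericPoint S)) G)), IsMonHom j → IsClosedImmersion j.left →
      (∃ c : (Red.bc (S.fromSpecResidueField (genericPoint S)) G) ⊗
        (Red.bc (S.fromSpecResidueField (genericPoint S)) H) ⟶ K, c ≫ j =
          comm (𝟙 _) ((Over.pullback (S.fromSpecResidueField (genericPoint S))).map h)) →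
      ∃ m : (Red.bc (S.fromSpecResidueField (genericPoint S)) H) ⟶ K,
        m ≫ j = ((Over.pullback (S.fromSpecResidueField (genericPoint S))).map h)) :
    ∃ U : S.Opens, (U : Set S).Nonempty ∧ ∀ s : U,
      (∀ (K : Over (Spec (S.residueField (s : S)))) (_ : GrpObj K)
        (j : K ⟶ (Red.bc (S.fromSpecResidueField (s : S)) G)), IsMonHom j → IsClosedImmersion j.left →
        (∃ c : (Red.bc (S.fromSpecResidueField (s : S)) G) ⊗
          (Red.bc (S.fromSpecResidueField (s : S)) H) ⟶ K, c ≫ j =
            comm (𝟙 _) ((Over.pullback (S.fromSpecResidueField (s : S))).map h)) →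
        ∃ m : (Red.bc (S.fromSpecResidueField (s : S)) H) ⟶ K,
          m ≫ j = ((Over.pullback (S.fromSpecResidueField (s : S))).map h)) := by
  have hmono := mono_of_isImmersion h
  have hqc := quasiCompact_left h
  let k := S.fromSpecResidueField (genericPoint S)
  have e1 : IsClosedImmersion ((Over.pullback k).map h).left := isClosedImmersion_map k h
  have e2 : LocallyOfFiniteType (Red.bc k G).hom :=
    inferInstanceAs (LocallyOfFiniteType (pullback.snd G.hom k))
  have e3 : QuasiCompact (Red.bc k G).hom :=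
    inferInstanceAs (QuasiCompact (pullback.snd G.hom k))
  have e4 : QuasiCompact (Red.bc k H).hom :=
    inferInstanceAs (QuasiCompact (pullback.snd H.hom k))
  have e5 : GeometricallyReduced (Red.bc k G).hom :=
    Groth.Agent.Flat2B.SmoothGeom.geometricallyReduced_of_smooth _
  have e6 : GeometricallyReduced (Red.bc k H).hom :=
    Groth.Agent.Flat2B.SmoothGeom.geometricallyReduced_of_smooth _
  obtain ⟨N, hNr⟩ := range_subset_W (k := S.residueField (genericPoint S)) (Red.bc k G) (Red.bc k H) ((Over.pullback k).map h)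
    (Groth.Agent.Sga3B.NormBc.isNormalHom_bc k h hN) hgen
  have hWc : ∀ {S' : Scheme.{u}} (σ : S' ⟶ S), W (comm (𝟙 (Red.bc σ G)) ((Over.pullback σ).map h)) N =
      (pj σ G).base ⁻¹' W (comm (𝟙 G) h) N := by
    intro S' σ
    rw [← W_bc, ← W_iso (Functor.Monoidal.μIso (Over.pullback σ) G H), μ_comm, CategoryTheory.Functor.map_id]
  let E : Set H.left := h.left.base ⁻¹' W (comm (𝟙 G) h) N
  have hE : IsLocallyConstructible E := by
    have i1 : LocallyOfFinitePresentation (G ⊗ H).hom := by rw [Over.tensorObj_hom]; infer_instance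
    have i2 : QuasiCompact (G ⊗ H).hom := by rw [Over.tensorObj_hom]; infer_instance
    exact Groth.Agent.Ega4fib.H149.FibreTopLoc.isLocallyConstructible_preimage h.left
      (isLocallyConstructible_W _ N)
  obtain ⟨U₁, hU₁, hEU⟩ := exists_open_fibre H hE (by
    intro x hx
    obtain ⟨s, hs⟩ := mem_range_fromSpec (genericPoint S)
    obtain ⟨y, rfl⟩ := exists_pj k H x s (hx.trans hs.symm)
    have h1 := hNr ⟨y, rfl⟩
    rw [hWc k] at h1
    change h.left.base ((pj k H).base y) ∈ W (comm (𝟙 G) h) N
    rw [← map_left_pj]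
    exact h1)
  obtain ⟨U₂, hU₂, hsm⟩ := spread_prop Groth.Agent.Sga3.H515.LimSmooth.descendsLim_smooth H hsmH
  refine ⟨U₁ ⊓ U₂, ⟨_, hU₁, hU₂⟩, ?_⟩
  rintro ⟨s, hs1, hs2⟩ K _ j _ _ hf
  let σ := S.fromSpecResidueField s
  have hσ : Set.range σ.base ⊆ {s} := (Scheme.range_fromSpecResidueField s).le
  have h1 : Smooth (Red.bc σ H).hom := hsm _ σ (hσ.trans (Set.singleton_subset_iff.mpr hs2))
  have h2 : GeometricallyReduced (Red.bc σ H).hom :=
    Groth.Agent.Flat2B.SmoothGeom.geometricallyReduced_of_smooth _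
  have h3 : IsReduced (Red.bc σ H).left := isReduced_left (k := S.residueField s) (Red.bc σ H)
  refine factors_of_range j ((Over.pullback σ).map h) ?_
  rintro _ ⟨y, rfl⟩
  refine W_subset_range _ j hf N ?_
  rw [hWc σ, Set.mem_preimage, map_left_pj]
  refine hEU ((pj σ H).base y) ?_
  rw [hom_pj]
  have h4 : σ.base ((Red.bc σ H).hom.base y) = s := hσ ⟨_, rfl⟩
  rw [h4]
  exact hs1

end K209.CommImm
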