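import Groth.Agent.SGA3.K209.StageSub
import Groth.Agent.SGA3.K209.CommImm
import Groth.Agent.S0420

/-!
# Families of commutator subgroups
-/

set_option autoImplicit false
universe u
open CategoryTheory CategoryTheory.Limits MonoidalCategory CartesianMonoidalCategory MonObj GrpObj
open AlgebraicGeometry TopologicalSpace Topology
open scoped commutatorElement

namespace K209.CommFam

open K209.Words K209.WordSch K209.WordBC K209.WordConn K209.WordNorm K209.WordComm K209.CommFld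
open K209.Spread K209.CommImm K209.GenSys K209.StageSub K210.LimHom
open scoped K210.LimHom

/-- A smooth closed subgroup which is the commutator subgroup on every fibre. -/
def GoodOver {T : Scheme.{u}} (G A B : Over T) [GrpObj G] (a : A ⟶ G) (b : B ⟶ G) (conn norm : Prop) :
    Prop :=
  ∃ (D : Over T) (_ : GrpObj D) (d : D ⟶ G) (c : A ⊗ B ⟶ D) (N : ℕ), IsMonHom d ∧ IsClosedImmersion d.left ∧
    LocallyOfFinitePresentation D.hom ∧ QuasiCompact D.hom ∧ QuasiSeparated D.hom ∧ Smooth D.hom ∧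
    c ≫ d = comm a b ∧ W c N = Set.univ ∧ (conn → GeometricallyConnected D.hom) ∧
    (norm → AlgGrp.IsNormalHom d)

section Transport

variable {T T' : Scheme.{u}} {G G' A A' B B' : Over T} [GrpObj G] [GrpObj G'] {a : A ⟶ G} {b : B ⟶ G}
  {conn norm : Prop}

theorem isClosedImmersion_map_left (φ : T' ⟶ T) {D G : Over T} (d : D ⟶ G) [IsClosedImmersion d.left] :
    IsClosedImmersion ((Over.pullback φ).map d).left :=
  MorphismProperty.of_isPullback (Groth.Agent.Sga3C.ActBase.isPullback_map_left φ d).flip inferInstance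

theorem isIso_left {X Y : Over T} (e : X ⟶ Y) [IsIso e] : IsIso e.left :=
  inferInstanceAs (IsIso ((Over.forget _).map e))

/-- Base change. -/
theorem GoodOver.bc (h : GoodOver G A B a b conn norm) (φ : T' ⟶ T) :
    GoodOver (Red.bc φ G) (Red.bc φ A) (Red.bc φ B) ((Over.pullback φ).map a) ((Over.pullback φ).map b)
      conn norm := by
  obtain ⟨D, hD, d, c, N, h1, h2, h3, h4, h5, h6, h7, h8, h9, h10⟩ := h
  refine ⟨Red.bc φ D, inferInstance, (Over.pullback φ).map d,
    (Functor.Monoidal.μIso (Over.pullback φ) A B).hom ≫ (Over.pullback φ).map c, N, inferInstance,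
    isClosedImmersion_map_left φ d, inferInstance, inferInstance, inferInstance, ?_, ?_, ?_, ?_, ?_⟩
  · exact inferInstanceAs (Smooth (pullback.snd D.hom φ))
  · rw [Category.assoc, ← CategoryTheory.Functor.map_comp, h7, μ_comm]
  · rw [W_iso, W_bc, h8]; rfl
  · intro hc
    have := h9 hc
    exact inferInstanceAs (GeometricallyConnected (pullback.snd D.hom φ))
  · intro hn
    exact Groth.Agent.Sga3B.NormBc.isNormalHom_bc φ d (h10 hn)

theorem comm_comp_hom {G H A B : Over T} [GrpObj G] [GrpObj H] (a : A ⟶ G) (b : B ⟶ G) (j : G ⟶ H) [IsMonHom j] :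
    comm a b ≫ j = comm (a ≫ j) (b ≫ j) := by
  rw [comm_def, comm_def, MonObj.mul_comp, MonObj.mul_comp, MonObj.mul_comp, GrpObj.inv_comp, GrpObj.inv_comp]
  simp only [Category.assoc]

theorem tensor_comm {G A A' B B' : Over T} [GrpObj G] (a : A ⟶ G) (b : B ⟶ G) (x : A' ⟶ A) (y : B' ⟶ B) :
    (x ⊗ₘ y) ≫ comm a b = comm (x ≫ a) (y ≫ b) := by
  rw [comm_def, comm_def, MonObj.comp_mul, MonObj.comp_mul, MonObj.comp_mul, GrpObj.comp_inv, GrpObj.comp_inv]
  simp only [tensorHom_fst_assoc, tensorHom_snd_assoc]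

/-- Transport along isomorphisms. -/
theorem GoodOver.iso (h : GoodOver G A B a b conn norm) {a' : A' ⟶ G'} {b' : B' ⟶ G'} (e : G ≅ G')
    [IsMonHom e.hom] (eA : A ≅ A') (eB : B ≅ B') (ha : a ≫ e.hom = eA.hom ≫ a') (hb : b ≫ e.hom = eB.hom ≫ b') :
    GoodOver G' A' B' a' b' conn norm := by
  obtain ⟨D, hD, d, c, N, h1, h2, h3, h4, h5, h6, h7, h8, h9, h10⟩ := h
  have i1 := isIso_left e.hom
  refine ⟨D, hD, d ≫ e.hom, (eA ⊗ᵢ eB).symm.hom ≫ c, N, inferInstance, ?_, h3, h4, h5, h6, ?_, ?_, h9, ?_⟩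
  · rw [Over.comp_left]; infer_instance
  · rw [Category.assoc, ← Category.assoc c, h7, comm_comp_hom, ha, hb]
    change (eA.inv ⊗ₘ eB.inv) ≫ _ = _
    rw [tensor_comm, Iso.inv_hom_id_assoc, Iso.inv_hom_id_assoc]
  · rw [W_iso, h8]
  · intro hn
    exact Groth.Agent.Sga3B.NormBc.isNormalHom_comp_iso d e.hom (h10 hn)

end Transport

section Comp

variable {S T T' : Scheme.{u}} {G A B : Over S} [GrpObj G] {a : A ⟶ G} {b : B ⟶ G} {conn norm : Prop}

/-- The property for the base change along `t`. -/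
def GoodAt (t : T ⟶ S) (a : A ⟶ G) (b : B ⟶ G) (conn norm : Prop) : Prop :=
  GoodOver (Red.bc t G) (Red.bc t A) (Red.bc t B) ((Over.pullback t).map a) ((Over.pullback t).map b) conn norm

theorem goodAt_comp (g : T' ⟶ T) (t : T ⟶ S) {d : T' ⟶ S} (h : g ≫ t = d)
    (H : GoodAt g ((Over.pullback t).map a) ((Over.pullback t).map b) conn norm) :
    GoodAt d a b conn norm :=
  GoodOver.iso H (ActBC.bcCompIso g t G h) (ActBC.bcCompIso g t A h) (ActBC.bcCompIso g t B h)
    (ActBC.bcCompIso_hom_naturality g t h a) (ActBC.bcCompIso_hom_naturality g t h b)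

theorem GoodAt.comp {t : T ⟶ S} (H : GoodAt t a b conn norm) (g : T' ⟶ T) {d : T' ⟶ S} (h : g ≫ t = d) :
    GoodAt d a b conn norm :=
  goodAt_comp g t h (GoodOver.bc H g)

end Comp

section Main

variable {S : Scheme.{u}}

/-- Points and the comparison of base changes. -/
theorem compat_pts {S₁ S₂ : Scheme.{u}} (g : S₂ ⟶ S₁) (t : S₁ ⟶ S) {k : S₂ ⟶ S} (h : g ≫ t = k) {G : Over S}
    {D₁ : Over S₁} {D' : Over S₂} (u : D' ⟶ Red.bc k G) (d₁ : D₁ ⟶ Red.bc t G) (e : Red.bc g D₁ ≅ D')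
    (he : (Over.pullback g).map d₁ ≫ (ActBC.bcCompIso g t G h).hom = e.hom ≫ u) (y : (Red.bc g D₁).left) :
    (pj t G).base (d₁.left.base ((pj g D₁).base y)) = (pj k G).base (u.left.base (e.hom.left.base y)) := by
  have h1 : ((Over.pullback g).map d₁ ≫ (ActBC.bcCompIso g t G h).hom).left ≫ pj k G =
      pj g D₁ ≫ d₁.left ≫ pj t G := by
    rw [Over.comp_left, Category.assoc]
    change _ ≫ (ActBC.bcCompIso g t G h).hom.left ≫ pullback.fst G.hom k = _
    rw [ActBC.bcCompIso_hom_left_fst, ActBC.pullback_map_left_fst_assoc]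
  rw [he, Over.comp_left] at h1
  have h2 := congrArg (fun g : (Red.bc g D₁).left ⟶ G.left => g.base y) h1
  simpa using h2.symm

/-- Words in commutators and base change. -/
theorem W_comm_bc {S' : Scheme.{u}} (σ : S' ⟶ S) {G A B : Over S} [GrpObj G] (a : A ⟶ G) (b : B ⟶ G) (N : ℕ) :
    W (comm ((Over.pullback σ).map a) ((Over.pullback σ).map b)) N = (pj σ G).base ⁻¹' W (comm a b) N := by
  rw [← W_bc, ← W_iso (Functor.Monoidal.μIso (Over.pullback σ) A B), μ_comm]

/-- A property of the structure morphism is inherited by further base changes. -/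
theorem prop_comp {P : MorphismProperty Scheme.{u}} [P.IsStableUnderBaseChange] {S₁ S₂ : Scheme.{u}}
    (l : S₂ ⟶ S₁) (t : S₁ ⟶ S) {g : S₂ ⟶ S} (hl : l ≫ t = g) (X : Over S) (hX : P (Red.bc t X).hom) :
    P (Red.bc g X).hom := by
  have h1 : IsPullback (pullback.fst X.hom g) (pullback.snd X.hom g) X.hom (l ≫ t) := by
    rw [hl]; exact .of_hasPullback _ _
  have h2 : IsPullback (pullback.lift (pullback.fst X.hom g) (pullback.snd X.hom g ≫ l)
      (by rw [Category.assoc, hl, pullback.condition])) (pullback.snd X.hom g)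
      (pullback.snd X.hom t) l := by
    refine IsPullback.of_right (h₁₂ := pullback.fst X.hom t) (h₂₂ := t) (v₁₃ := X.hom) ?_
      (pullback.lift_snd _ _ _) (.of_hasPullback _ _)
    rw [pullback.lift_fst]
    exact h1
  exact P.of_isPullback h2 hX

variable [IsIntegral S] (𝒮 : Sys S)

theorem isIntegral_stage (i : 𝒮.J) : IsIntegral (𝒮.E.obj i) := by
  obtain ⟨x, hx⟩ := genericPoint_mem_opensRange 𝒮 i
  have : Nonempty (𝒮.E.obj i) := ⟨x⟩
  exact isIntegral_of_isOpenImmersion (𝒮.t i)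

theorem t_genericPoint (i : 𝒮.J) [IsIntegral (𝒮.E.obj i)] :
    (𝒮.t i) (genericPoint (𝒮.E.obj i)) = genericPoint S := genericPoint_eq_of_isOpenImmersion (𝒮.t i)

theorem π_apply (i : 𝒮.J) [IsIntegral (𝒮.E.obj i)] (s : Spec (S.residueField (genericPoint S))) :
    (𝒮.π.app i).base s = genericPoint (𝒮.E.obj i) := by
  apply (𝒮.t i).isOpenEmbedding.injective
  have h1 : (𝒮.t i).base ((𝒮.π.app i).base s) = (S.fromSpecResidueField (genericPoint S)).base s := by
    have h := congrArg (fun g : Spec (S.residueField (genericPoint S)) ⟶ S => g.base s) (𝒮.fac i)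
    simpa using h
  refine h1.trans ?_
  have h2 : (S.fromSpecResidueField (genericPoint S)).base s = genericPoint S := by
    have : (S.fromSpecResidueField (genericPoint S)).base s ∈
        Set.range (S.fromSpecResidueField (genericPoint S)) := ⟨s, rfl⟩
    rw [Scheme.range_fromSpecResidueField] at this
    exact this
  rw [h2]
  exact (t_genericPoint 𝒮 i).symm

theorem exists_pt (i : 𝒮.J) [IsIntegral (𝒮.E.obj i)] :
    ∃ ψ : Spec ((𝒮.E.obj i).residueField (genericPoint (𝒮.E.obj i))) ⟶ Spec (S.residueField (genericPoint S)),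
      ψ ≫ 𝒮.π.app i = (𝒮.E.obj i).fromSpecResidueField (genericPoint (𝒮.E.obj i)) := by
  have h0 := t_genericPoint 𝒮 i
  let ψ₁ := Spec.map ((𝒮.t i).residueFieldMap (genericPoint (𝒮.E.obj i)))
  let ψ₂ := Spec.map (S.residueFieldCongr h0.symm).hom
  refine ⟨ψ₁ ≫ ψ₂, ?_⟩
  rw [← cancel_mono (𝒮.t i), Category.assoc, Category.assoc]
  have e1 : 𝒮.π.app i ≫ 𝒮.t i = S.fromSpecResidueField (genericPoint S) := 𝒮.fac i
  have e2 : ψ₂ ≫ S.fromSpecResidueField (genericPoint S) =
      S.fromSpecResidueField ((𝒮.t i) (genericPoint (𝒮.E.obj i))) :=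
    Scheme.residueFieldCongr_fromSpecResidueField h0.symm
  have e3 : ψ₁ ≫ S.fromSpecResidueField ((𝒮.t i) (genericPoint (𝒮.E.obj i))) =
      (𝒮.E.obj i).fromSpecResidueField (genericPoint (𝒮.E.obj i)) ≫ 𝒮.t i :=
    Scheme.Hom.SpecMap_residueFieldMap_fromSpecResidueField _ _
  calc ψ₁ ≫ ψ₂ ≫ 𝒮.π.app i ≫ 𝒮.t i = ψ₁ ≫ ψ₂ ≫ S.fromSpecResidueField (genericPoint S) := by
        exact congrArg (fun z => ψ₁ ≫ ψ₂ ≫ z) e1
    _ = _ := by rw [e2, e3]

theorem isOpenImmersion_map {i i' : 𝒮.J} (f : i' ⟶ i) : IsOpenImmersion (𝒮.E.map f) := by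
  have h : IsOpenImmersion (𝒮.E.map f ≫ 𝒮.t i) := by rw [𝒮.w f]; infer_instance
  exact IsOpenImmersion.of_comp (𝒮.E.map f) (𝒮.t i)

theorem genericPoint_mem_map {i i' : 𝒮.J} [IsIntegral (𝒮.E.obj i)] (f : i' ⟶ i) [IsOpenImmersion (𝒮.E.map f)] :
    genericPoint (𝒮.E.obj i) ∈ (𝒮.E.map f).opensRange := by
  have h1 := isIntegral_stage 𝒮 i'
  exact ⟨genericPoint (𝒮.E.obj i'), genericPoint_eq_of_isOpenImmersion (𝒮.E.map f)⟩

omit [IsIntegral S] in
theorem W_eq_univ {G D X : Over S} [GrpObj G] [GrpObj D] (c : X ⟶ D) (d : D ⟶ G) [IsMonHom d]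
    (hinj : Function.Injective d.left.base) {N : ℕ} (h : ∀ y, d.left.base y ∈ W (c ≫ d) N) :
    W c N = Set.univ := by
  refine Set.eq_univ_of_forall fun y => ?_
  have h1 := h y
  rw [W_comp] at h1
  obtain ⟨z, hz, hzy⟩ := h1
  rwa [← hinj hzy]

variable {𝒮} in
theorem fac_bc {i i' : 𝒮.J} {f : i' ⟶ i} {X Y Z : Over (𝒮.E.obj i)} {p : X ⟶ Z} {q : Y ⟶ Z}
    (h : Fac 𝒮 p q i' f) {V : Scheme.{u}} {g : V ⟶ 𝒮.E.obj i} (l : V ⟶ 𝒮.E.obj i') (hl : l ≫ 𝒮.E.map f = g) :
    ∃ v : Red.bc g X ⟶ Red.bc g Y, v ≫ (Over.pullback g).map q = (Over.pullback g).map p := by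
  obtain ⟨v, hv⟩ := h
  refine ⟨mv l (𝒮.E.map f) hl v, ?_⟩
  rw [← mv_map l (𝒮.E.map f) hl q, ← mv_comp, hv, mv_map]

/-- **Families of commutator subgroups.** -/
theorem exists_goodAt (G A B : Over S) [GrpObj G] [GrpObj A] [GrpObj B]
    [LocallyOfFinitePresentation G.hom] [QuasiCompact G.hom] [QuasiSeparated G.hom]
    [LocallyOfFinitePresentation A.hom] [QuasiCompact A.hom] [QuasiSeparated A.hom]
    [LocallyOfFinitePresentation B.hom] [QuasiCompact B.hom] [QuasiSeparated B.hom]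
    (a : A ⟶ G) [IsMonHom a] [IsImmersion a.left] (b : B ⟶ G) [IsMonHom b] [IsImmersion b.left]
    (hsmA : Smooth (Red.bc (S.fromSpecResidueField (genericPoint S)) A).hom)
    (hsmB : Smooth (Red.bc (S.fromSpecResidueField (genericPoint S)) B).hom)
    (hcase : ConnectedSpace (Red.bc (S.fromSpecResidueField (genericPoint S)) A).left ∨
      (AlgGrp.IsNormalHom a ∧ AlgGrp.IsNormalHom b)) :
    ∃ (T : Scheme.{u}) (t : T ⟶ S) (_ : IsOpenImmersion t), genericPoint S ∈ t.opensRange ∧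
      GoodAt t a b (ConnectedSpace (Red.bc (S.fromSpecResidueField (genericPoint S)) A).left)
        (AlgGrp.IsNormalHom a ∧ AlgGrp.IsNormalHom b) := by
  obtain ⟨𝒮⟩ := exists_sys S
  have hmA := mono_of_isImmersion a
  have hmB := mono_of_isImmersion b
  have hqA := quasiCompact_left a
  have hqB := quasiCompact_left b
  let k := S.fromSpecResidueField (genericPoint S)
  let aη := (Over.pullback k).map a
  let bη := (Over.pullback k).map b
  have e1 : IsClosedImmersion aη.left := isClosedImmersion_map k a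
  have e2 : IsClosedImmersion bη.left := isClosedImmersion_map k b
  have e3 : GeometricallyReduced (Red.bc k A).hom :=
    Groth.Agent.Flat2B.SmoothGeom.geometricallyReduced_of_smooth _
  have e4 : GeometricallyReduced (Red.bc k B).hom :=
    Groth.Agent.Flat2B.SmoothGeom.geometricallyReduced_of_smooth _
  obtain ⟨D', hD', u, cη, N, δ, hu, hcl, hc, hsm, hqc, hsurj, hconn, hnorm⟩ :=
    exists_comm_field (k := S.residueField (genericPoint S)) (Red.bc k G) (Red.bc k A) (Red.bc k B) aη bη (by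
      rcases hcase with h | ⟨h1, h2⟩
      · exact Or.inr h
      · exact Or.inl ⟨Groth.Agent.Sga3B.NormBc.isNormalHom_bc k a h1,
          Groth.Agent.Sga3B.NormBc.isNormalHom_bc k b h2, inferInstance⟩)
  have l1 : LocallyOfFinitePresentation D'.hom := inferInstance
  have l2 : QuasiSeparated D'.hom := by
    have h0 : LocallyOfFiniteType D'.hom := inferInstance
    have h0' : IsLocallyNoetherian D'.left :=
      LocallyOfFiniteType.isLocallyNoetherian (Y := Spec (CommRingCat.of (S.residueField (genericPoint S)))) D'.hom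
    have h3 : QuasiSeparatedSpace D'.left := inferInstance
    exact QuasiSeparated.of_quasiSeparatedSpace _
  -- the points of `D'` are words
  have hW' : ∀ y : D'.left, (pj k G).base (u.left.base y) ∈ W (comm a b) N := by
    intro y
    obtain ⟨z, rfl⟩ := hsurj.surj y
    have h1 : u.left.base ((uw cη N δ).left.base z) ∈ W (comm aη bη) N := by
      rw [mem_W_iff]
      refine ⟨δ, z, ?_⟩
      rw [← hc, ← uw_comp_hom]
      exact Groth.Agent.Sga3C.HomogIrr.comp_left_apply _ _ z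
    rw [W_comm_bc] at h1
    exact h1
  obtain ⟨i, D₁, hD₁, l3, l4, l5, d₁, e, hd₁, hcl₁, he⟩ := exists_stage_subgroup 𝒮 G D' u
  let a₁ := (Over.pullback (𝒮.t i)).map a
  let b₁ := (Over.pullback (𝒮.t i)).map b
  have hint := isIntegral_stage 𝒮 i
  have hd₁m : Mono d₁ := Groth.Agent.Sga3C.ClosedSub.mono_of_left d₁
  -- words
  let E₁ : Set D₁.left := d₁.left.base ⁻¹' W (comm a₁ b₁) N
  have hE₁ : IsLocallyConstructible E₁ :=
    Groth.Agent.Ega4fib.H149.FibreTopLoc.isLocallyConstructible_preimage d₁.left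
      (isLocallyConstructible_W _ N)
  obtain ⟨V₁, hV₁, hEV⟩ := exists_open_fibre D₁ hE₁ (by
    intro x hx
    obtain ⟨s, -⟩ := mem_range_fromSpec (genericPoint S)
    obtain ⟨y, rfl⟩ := exists_pj (𝒮.π.app i) D₁ x s (hx.trans (π_apply 𝒮 i s).symm)
    change d₁.left.base ((pj (𝒮.π.app i) D₁).base y) ∈ W (comm a₁ b₁) N
    rw [W_comm_bc]
    change (pj (𝒮.t i) G).base (d₁.left.base ((pj (𝒮.π.app i) D₁).base y)) ∈ W (comm a b) N
    rw [compat_pts (𝒮.π.app i) (𝒮.t i) (𝒮.fac i) u d₁ e he]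
    exact hW' _)
  -- connectedness
  obtain ⟨V₂, hV₂, hVc⟩ : ∃ V₂ : (𝒮.E.obj i).Opens, genericPoint (𝒮.E.obj i) ∈ V₂ ∧
      (ConnectedSpace (Red.bc (S.fromSpecResidueField (genericPoint S)) A).left →
        GeometricallyConnected (Red.bc V₂.ι D₁).hom) := by
    have hri := MorphismProperty.IsStableUnderBaseChange.respectsIso (P := @GeometricallyConnected.{u})
    by_cases hA : ConnectedSpace (Red.bc (S.fromSpecResidueField (genericPoint S)) A).left
    · have c1 : ConnectedSpace D'.left := hconn hA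
      have c2 : GeometricallyConnected D'.hom :=
        geometricallyConnected_grp (k := S.residueField (genericPoint S)) D'
      have c3 : GeometricallyConnected (Red.bc (𝒮.π.app i) D₁).hom := by
        rw [← Over.w e.hom]
        have i1 := isIso_left e.hom
        exact (MorphismProperty.cancel_left_of_respectsIso @GeometricallyConnected _ _).mpr c2
      obtain ⟨ψ, hψ⟩ := exists_pt 𝒮 i
      have c4 : GeometricallyConnected (D₁.hom.fiberToSpecResidueField (genericPoint (𝒮.E.obj i))) :=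
        prop_comp (P := @GeometricallyConnected) ψ (𝒮.π.app i) hψ D₁ c3
      obtain ⟨V₂, hne, hV₂⟩ := Groth.Agent.S0420.result D₁.hom c4
      refine ⟨V₂, ?_, fun _ => ?_⟩
      · obtain ⟨x, hx⟩ := hne
        exact ((genericPoint_spec (𝒮.E.obj i)).mem_open_set_iff V₂.isOpen).mpr ⟨x, trivial, hx⟩
      · have c5 : GeometricallyConnected ((pullbackRestrictIsoRestrict D₁.hom V₂).inv ≫
            pullback.snd D₁.hom V₂.ι) := hV₂
        exact (MorphismProperty.cancel_left_of_respectsIso @GeometricallyConnected _ _).mp c5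
    · exact ⟨⊤, trivial, fun h => absurd h hA⟩
  -- factorizations
  have s1 : ∃ (i' : 𝒮.J) (f : i' ⟶ i), Fac 𝒮 (comm a₁ b₁) d₁ i' f := by
    refine exists_fac 𝒮 (comm a₁ b₁) d₁ ⟨(Functor.Monoidal.μIso (Over.pullback (𝒮.π.app i)) _ _).inv ≫
      ((ActBC.bcCompIso (𝒮.π.app i) (𝒮.t i) A (𝒮.fac i)).hom ⊗ₘ
        (ActBC.bcCompIso (𝒮.π.app i) (𝒮.t i) B (𝒮.fac i)).hom) ≫ cη ≫ e.inv, ?_⟩
    rw [← cancel_mono (ActBC.bcCompIso (𝒮.π.app i) (𝒮.t i) G (𝒮.fac i)).hom, ← cancel_epi
      (Functor.Monoidal.μIso (Over.pullback (𝒮.π.app i)) _ _).hom]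
    simp only [Category.assoc]
    rw [he, Iso.inv_hom_id_assoc, hc, Iso.hom_inv_id_assoc, tensor_comm, ← Category.assoc, μ_comm,
      comm_comp_hom, ActBC.bcCompIso_hom_naturality, ActBC.bcCompIso_hom_naturality]
  have s2 : ∃ (i' : 𝒮.J) (f : i' ⟶ i), (AlgGrp.IsNormalHom a ∧ AlgGrp.IsNormalHom b →
      Fac 𝒮 (conj d₁) d₁ i' f) := by
    by_cases hn : AlgGrp.IsNormalHom a ∧ AlgGrp.IsNormalHom b
    · have n1 : AlgGrp.IsNormalHom u := hnorm ⟨Groth.Agent.Sga3B.NormBc.isNormalHom_bc k a hn.1,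
          Groth.Agent.Sga3B.NormBc.isNormalHom_bc k b hn.2⟩
      have n2 : AlgGrp.IsNormalHom ((Over.pullback (𝒮.π.app i)).map d₁) := by
        have h1 : (Over.pullback (𝒮.π.app i)).map d₁ =
            e.hom ≫ u ≫ (ActBC.bcCompIso (𝒮.π.app i) (𝒮.t i) G (𝒮.fac i)).inv := by
          rw [← Category.assoc, ← he, Category.assoc, Iso.hom_inv_id, Category.comp_id]
        rw [h1]
        exact Groth.Agent.Sga3B.NormBc.isNormalHom_iso_comp e.hom _
          (Groth.Agent.Sga3B.NormBc.isNormalHom_comp_iso u _ n1)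
      rw [isNormalHom_map_iff] at n2
      obtain ⟨i', f, hf⟩ := exists_fac 𝒮 (conj d₁) d₁ n2
      exact ⟨i', f, fun _ => hf⟩
    · exact ⟨i, 𝟙 i, fun h => absurd h hn⟩
  have s3 : ∃ (i' : 𝒮.J) (f : i' ⟶ i), Smooth (Red.bc (𝒮.E.map f) D₁).hom := by
    obtain ⟨j, hj⟩ := Groth.Agent.Sga3.H515.GrpModel.exists_stage_prop 𝒮.lim
      Groth.Agent.Sga3.H515.LimSmooth.descendsLim_smooth (G₀ := D₁) e hsm
    exact ⟨j.left, j.hom, hj⟩
  obtain ⟨i', f, f1, f2, f3⟩ := stage_and Fac.move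
    (Q₂ := fun i' f => (AlgGrp.IsNormalHom a ∧ AlgGrp.IsNormalHom b → Fac 𝒮 (conj d₁) d₁ i' f) ∧
      Smooth (Red.bc (𝒮.E.map f) D₁).hom)
    (fun g f h => ⟨fun hn => Fac.move g f (h.1 hn), prop_comp (P := @Smooth) (𝒮.E.map g) (𝒮.E.map f)
      (𝒮.E.map_comp g f).symm D₁ h.2⟩) s1
    (stage_and (Q₁ := fun i' f => (AlgGrp.IsNormalHom a ∧ AlgGrp.IsNormalHom b → Fac 𝒮 (conj d₁) d₁ i' f))
      (Q₂ := fun i' f => Smooth (Red.bc (𝒮.E.map f) D₁).hom)
      (fun g f h => fun hn => Fac.move g f (h hn)) (fun g f h => prop_comp (P := @Smooth) (𝒮.E.map g)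
      (𝒮.E.map f) (𝒮.E.map_comp g f).symm D₁ h) s2 s3)
  have hoi := isOpenImmersion_map 𝒮 f
  let V : (𝒮.E.obj i).Opens := V₁ ⊓ V₂ ⊓ (𝒮.E.map f).opensRange
  have hgV : genericPoint (𝒮.E.obj i) ∈ V := ⟨⟨hV₁, hV₂⟩, genericPoint_mem_map 𝒮 f⟩
  let l : (V : Scheme.{u}) ⟶ 𝒮.E.obj i' := IsOpenImmersion.lift (𝒮.E.map f) V.ι (by
    rw [Scheme.Opens.range_ι]
    exact fun x hx => hx.2)
  have hl : l ≫ 𝒮.E.map f = V.ι := IsOpenImmersion.lift_fac _ _ _
  refine ⟨V, V.ι ≫ 𝒮.t i, inferInstance, ?_, ?_⟩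
  · refine ⟨⟨genericPoint (𝒮.E.obj i), hgV⟩, ?_⟩
    rw [← t_genericPoint 𝒮 i]
    rfl
  refine goodAt_comp V.ι (𝒮.t i) rfl ?_
  obtain ⟨v, hv⟩ := fac_bc f1 l hl
  have hc' : ((Functor.Monoidal.μIso (Over.pullback V.ι) _ _).hom ≫ v) ≫ (Over.pullback V.ι).map d₁ =
      comm ((Over.pullback V.ι).map a₁) ((Over.pullback V.ι).map b₁) := by
    rw [Category.assoc, hv, μ_comm]
  have hcl₂ : IsClosedImmersion ((Over.pullback V.ι).map d₁).left := isClosedImmersion_map_left V.ι d₁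
  refine ⟨Red.bc V.ι D₁, inferInstance, (Over.pullback V.ι).map d₁,
    (Functor.Monoidal.μIso (Over.pullback V.ι) _ _).hom ≫ v, N, inferInstance, hcl₂,
    inferInstance, inferInstance, inferInstance, ?_, hc', ?_, ?_, ?_⟩
  · exact prop_comp (P := @Smooth) l (𝒮.E.map f) hl D₁ f3
  · refine W_eq_univ _ ((Over.pullback V.ι).map d₁) ((Over.pullback V.ι).map d₁).left.isClosedEmbedding.injective ?_
    intro y
    rw [hc', W_comm_bc, Set.mem_preimage, map_left_pj]
    refine hEV _ ?_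
    rw [hom_pj]
    have h1 : V.ι.base ((Red.bc V.ι D₁).hom.base y) ∈ V := ((Red.bc V.ι D₁).hom.base y).2
    exact h1.1.1
  · intro hA
    have hVle : V ≤ V₂ := inf_le_left.trans inf_le_right
    exact prop_comp (P := @GeometricallyConnected) ((𝒮.E.obj i).homOfLE hVle) V₂.ι
      ((𝒮.E.obj i).homOfLE_ι hVle) D₁ (hVc hA)
  · intro hn
    rw [isNormalHom_map_iff]
    exact fac_bc (f2 hn) l hl

end Main

section Fibres

variable {T : Scheme.{u}} {G A B : Over T} [GrpObj G] {a : A ⟶ G} {b : B ⟶ G}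

/-- The fibrewise description. -/
theorem fibre_comm {D : Over T} [GrpObj D] {d : D ⟶ G} [IsMonHom d] [IsClosedImmersion d.left] [Smooth D.hom]
    {c : A ⊗ B ⟶ D} {N : ℕ} (hc : c ≫ d = comm a b) (hW : W c N = Set.univ) (s : T) :
    (∃ c' : (Red.bc (T.fromSpecResidueField s) A) ⊗ (Red.bc (T.fromSpecResidueField s) B) ⟶
      (Red.bc (T.fromSpecResidueField s) D), c' ≫ (Over.pullback (T.fromSpecResidueField s)).map d =
        comm ((Over.pullback (T.fromSpecResidueField s)).map a)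
          ((Over.pullback (T.fromSpecResidueField s)).map b)) ∧
    ∀ (Γ' : Over (Spec (T.residueField s))) (_ : GrpObj Γ') (i' : Γ' ⟶ (Red.bc (T.fromSpecResidueField s) G)),
      IsMonHom i' → IsClosedImmersion i'.left →
      (∃ c' : (Red.bc (T.fromSpecResidueField s) A) ⊗ (Red.bc (T.fromSpecResidueField s) B) ⟶ Γ', c' ≫ i' =
        comm ((Over.pullback (T.fromSpecResidueField s)).map a)
          ((Over.pullback (T.fromSpecResidueField s)).map b)) →
      ∃ j : (Red.bc (T.fromSpecResidueField s) D) ⟶ Γ', j ≫ i' =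
        ((Over.pullback (T.fromSpecResidueField s)).map d) := by
  let σ := T.fromSpecResidueField s
  have h1 : ((Functor.Monoidal.μIso (Over.pullback σ) A B).hom ≫ (Over.pullback σ).map c) ≫
      (Over.pullback σ).map d = comm ((Over.pullback σ).map a) ((Over.pullback σ).map b) := by
    rw [Category.assoc, ← CategoryTheory.Functor.map_comp, hc, μ_comm]
  refine ⟨⟨_, h1⟩, ?_⟩
  intro Γ' _ i' _ _ hf
  have h2 : Smooth (Red.bc σ D).hom := inferInstanceAs (Smooth (pullback.snd D.hom σ))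
  have h3 : GeometricallyReduced (Red.bc σ D).hom :=
    Groth.Agent.Flat2B.SmoothGeom.geometricallyReduced_of_smooth _
  have h4 : IsReduced (Red.bc σ D).left := isReduced_left (k := T.residueField s) (Red.bc σ D)
  refine factors_of_range i' ((Over.pullback σ).map d) ?_
  rintro _ ⟨y, rfl⟩
  refine W_subset_range _ i' hf N ?_
  rw [← h1, W_comp]
  refine ⟨y, ?_, rfl⟩
  rw [W_iso, W_bc, hW]
  trivial

end Fibres

end K209.CommFam
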