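import Mathlib.GroupTheory.Schreier
import Mathlib.GroupTheory.FiniteAbelian.Basic
import Mathlib.GroupTheory.Torsion
import Mathlib.Algebra.Group.Pointwise.Set.ListOfFn
import Mathlib.Algebra.Group.Subgroup.Finite
import Mathlib.Algebra.Group.Subgroup.Pointwise

/-!
# Baer's lemma

If `A` and `B` are normal subgroups of a group with finitely many commutators `⁅a, b⁆`, `a ∈ A`,
`b ∈ B`, then `⁅A, B⁆` is finite.  Consequence: if moreover `C` is a normal subgroup containing the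
commutators of `A₀` with `B` and of `A` with `B₀`, where `A₀` and `B₀` are of finite index in `A` and
`B`, then `⁅A, B⁆` is a finite union of cosets of `C`, and words in commutators of bounded length and `C`
exhaust it.
-/

open Set
open scoped Pointwise commutatorElement

namespace K209.Baer

variable {G : Type*} [Group G]

theorem commutator_pow_right_of_comm {a l : G} (hl : Commute l ⁅a, l⁆)
    (n : ℕ) :
    ⁅a, l ^ n⁆ = ⁅a, l⁆ ^ n := by
  induction n with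
  | zero => simp
  | succ n ih =>
    have h1 : ⁅a, l ^ (n + 1)⁆ = ⁅a, l ^ n⁆ * (l ^ n * ⁅a, l⁆ * (l ^ n)⁻¹) := by
      rw [pow_succ]
      simp only [commutatorElement_def]
      group
    have h2 : l ^ n * ⁅a, l⁆ * (l ^ n)⁻¹ = ⁅a, l⁆ := by
      rw [(hl.pow_left n).eq, mul_inv_cancel_right]
    rw [h1, h2, ih, pow_succ]

/-- Baer's lemma when `⁅A, B⁆` is commutative. -/
theorem finite_of_comm (A B : Subgroup G) [hAn : A.Normal] [hBn : B.Normal]
    (hfin : {g : G | ∃ a ∈ A, ∃ b ∈ B, ⁅a, b⁆ = g}.Finite)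
    (hcomm : ∀ x ∈ ⁅A, B⁆, ∀ y ∈ ⁅A, B⁆, x * y = y * x) : ((⁅A, B⁆ : Subgroup G) : Set G).Finite := by
  classical
  set S : Set G := {g : G | ∃ a ∈ A, ∃ b ∈ B, ⁅a, b⁆ = g} with hS
  set L : Subgroup G := ⁅A, B⁆ with hL
  have hLA : L ≤ A := Subgroup.commutator_le_left A B
  have hLB : L ≤ B := Subgroup.commutator_le_right A B
  have hLn : L.Normal := inferInstance
  -- (i)
  have h1 : ∀ a ∈ A, ∀ l ∈ L, IsOfFinOrder ⁅a, l⁆ := by
    intro a ha l hl
    have hal : a * l * a⁻¹ ∈ L := hLn.conj_mem l hl a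
    have h2 : ∀ n : ℕ, ⁅a, l⁆ ^ n ∈ S := by
      intro n
      rw [← commutator_pow_right_of_comm (a := a) (l := l)]
      · exact ⟨a, ha, l ^ n, hLB (L.pow_mem hl n), rfl⟩
      · have h3 : ⁅a, l⁆ ∈ L := by
          rw [commutatorElement_def]
          exact L.mul_mem hal (L.inv_mem hl)
        exact hcomm _ hl _ h3
    rw [← finite_powers]
    refine hfin.subset ?_
    rintro _ ⟨n, rfl⟩
    exact h2 n
  -- (ii)
  have h2 : ∀ s ∈ S, IsOfFinOrder s := by
    rintro s ⟨a, ha, b, hb, rfl⟩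
    set s := ⁅a, b⁆ with hs
    have hmem : ∀ n : ℕ, ⁅a ^ n, b⁆ ∈ L := fun n =>
      Subgroup.commutator_mem_commutator (A.pow_mem ha n) hb
    have hsL : s ∈ L := Subgroup.commutator_mem_commutator ha hb
    have h3 : ∀ n : ℕ, ∃ t ∈ L, IsOfFinOrder t ∧ ⁅a ^ n, b⁆ = s ^ n * t := by
      intro n
      induction n with
      | zero => exact ⟨1, L.one_mem, IsOfFinOrder.one, by simp⟩
      | succ n ih =>
        obtain ⟨t, htL, ht, hnt⟩ := ih
        have h4 : ⁅a ^ (n + 1), b⁆ = ⁅a, ⁅a ^ n, b⁆⁆ * ⁅a ^ n, b⁆ * s := by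
          rw [hs, pow_succ']
          simp only [commutatorElement_def]
          group
        have h5 : ⁅a, ⁅a ^ n, b⁆⁆ ∈ L := by
          rw [commutatorElement_def]
          exact L.mul_mem (hLn.conj_mem _ (hmem n) a) (L.inv_mem (hmem n))
        have h6 := h1 a ha _ (hmem n)
        refine ⟨⁅a, ⁅a ^ n, b⁆⁆ * t, L.mul_mem h5 htL, ?_, ?_⟩
        · exact Commute.isOfFinOrder_mul (hcomm _ h5 _ htL) h6 ht
        · rw [h4, hnt]
          rw [hnt] at h5
          have e1 : ⁅a, s ^ n * t⁆ * (s ^ n * t) * s = s * (⁅a, s ^ n * t⁆ * (s ^ n * t)) :=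
            hcomm _ (L.mul_mem h5 (L.mul_mem (L.pow_mem hsL n) htL)) _ hsL
          rw [e1, hcomm _ h5 _ (L.mul_mem (L.pow_mem hsL n) htL), pow_succ']
          simp only [mul_assoc]
          rw [hcomm _ htL _ h5]
    choose t htL ht hst using h3
    have hinf : ¬ Function.Injective (fun n : ℕ => ⁅a ^ n, b⁆) := by
      intro hinj
      have : (Set.range fun n : ℕ => ⁅a ^ n, b⁆).Finite :=
        hfin.subset (by rintro _ ⟨n, rfl⟩; exact ⟨a ^ n, A.pow_mem ha n, b, hb, rfl⟩)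
      exact Set.infinite_range_of_injective hinj this
    rw [Function.not_injective_iff] at hinf
    obtain ⟨m, n, hmn, hne⟩ := hinf
    have key : ∀ m n : ℕ, m < n → ⁅a ^ m, b⁆ = ⁅a ^ n, b⁆ → IsOfFinOrder s := by
      intro m n hlt hmn
      rw [hst m, hst n] at hmn
      obtain ⟨k, rfl⟩ := Nat.exists_eq_add_of_lt hlt
      have h7 : s ^ (k + 1) = t m * (t (m + k + 1))⁻¹ := by
        rw [eq_mul_inv_iff_mul_eq]
        have h8 : s ^ m * (s ^ (k + 1) * t (m + k + 1)) = s ^ m * t m := by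
          rw [← mul_assoc, ← pow_add, hmn, add_assoc]
        exact mul_left_cancel h8
      have h9 : IsOfFinOrder (s ^ (k + 1)) := by
        rw [h7]
        exact Commute.isOfFinOrder_mul (hcomm _ (htL _) _ (L.inv_mem (htL _))) (ht _) (ht _).inv
      exact h9.of_pow (Nat.succ_ne_zero k)
    rcases lt_or_gt_of_ne hne with hlt | hlt
    · exact key m n hlt hmn
    · exact key n m hlt hmn.symm
  -- conclusion
  let _ : CommGroup L := { (inferInstance : Group L) with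
    mul_comm := fun x y => Subtype.ext (hcomm x.1 x.2 y.1 y.2) }
  have hclos : Subgroup.closure ((Subtype.val : L → G) ⁻¹' S) = ⊤ := by
    rw [hL, Subgroup.commutator_def]
    exact Subgroup.closure_preimage_eq_top _
  have hfg : Group.FG L := by
    refine (Group.fg_iff).mpr ⟨(Subtype.val : L → G) ⁻¹' S, hclos, ?_⟩
    exact hfin.preimage Subtype.val_injective.injOn
  have htors : IsMulTorsion L := by
    intro g
    have hg : g ∈ Subgroup.closure ((Subtype.val : L → G) ⁻¹' S) := by rw [hclos]; trivial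
    induction hg using Subgroup.closure_induction with
    | mem x hx => exact (Submonoid.isOfFinOrder_coe (H := L.toSubmonoid)).mp (h2 _ hx)
    | one => exact IsOfFinOrder.one
    | mul x y _ _ hx hy => exact hx.mul hy
    | inv x _ hx => exact hx.inv
  have := CommGroup.finite_of_fg_isMulTorsion L htors
  exact Set.toFinite (L : Set G)

/-- **Baer's lemma.** -/
theorem finite_commutator (A B : Subgroup G) [hAn : A.Normal] [hBn : B.Normal]
    (hfin : {g : G | ∃ a ∈ A, ∃ b ∈ B, ⁅a, b⁆ = g}.Finite) :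
    ((⁅A, B⁆ : Subgroup G) : Set G).Finite := by
  classical
  set L : Subgroup G := ⁅A, B⁆ with hL
  have hLA : L ≤ A := Subgroup.commutator_le_left A B
  have hLB : L ≤ B := Subgroup.commutator_le_right A B
  have hLn : L.Normal := inferInstance
  -- the commutator subgroup of `L` is finite by Schur
  have h1 : Finite (commutatorSet L) := by
    have h2 : ((Subtype.val : L → G) ⁻¹' {g : G | ∃ a ∈ A, ∃ b ∈ B, ⁅a, b⁆ = g}).Finite :=
      hfin.preimage Subtype.val_injective.injOn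
    refine Set.Finite.to_subtype (h2.subset ?_)
    rintro _ ⟨x, y, rfl⟩
    exact ⟨x, hLA x.2, y, hLB y.2, rfl⟩
  have h2 : ((⁅L, L⁆ : Subgroup G) : Set G).Finite := by
    rw [← Subgroup.map_subtype_commutator]
    have h3 : Finite (_root_.commutator L) := inferInstance
    exact Set.Finite.image _ (Set.toFinite ((_root_.commutator L : Subgroup L) : Set L))
  set N : Subgroup G := ⁅L, L⁆ with hN
  have hNn : N.Normal := inferInstance
  let π : G →* G ⧸ N := QuotientGroup.mk' N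
  have hπ : Function.Surjective π := QuotientGroup.mk'_surjective N
  have hAn' : (A.map π).Normal := hAn.map π hπ
  have hBn' : (B.map π).Normal := hBn.map π hπ
  have h3 : ((⁅A.map π, B.map π⁆ : Subgroup (G ⧸ N)) : Set (G ⧸ N)).Finite := by
    apply finite_of_comm
    · refine (hfin.image π).subset ?_
      rintro _ ⟨_, ⟨a, ha, rfl⟩, _, ⟨b, hb, rfl⟩, rfl⟩
      exact ⟨⁅a, b⁆, ⟨a, ha, b, hb, rfl⟩, map_commutatorElement _ _ _⟩
    · rw [← Subgroup.map_commutator]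
      rintro _ ⟨x, hx, rfl⟩ _ ⟨y, hy, rfl⟩
      rw [← map_mul, ← map_mul]
      apply QuotientGroup.eq.mpr
      have : (x * y)⁻¹ * (y * x) = ⁅y⁻¹, x⁻¹⁆ := by
        simp only [commutatorElement_def]; group
      rw [this]
      exact Subgroup.commutator_mem_commutator (L.inv_mem hy) (L.inv_mem hx)
  rw [← Subgroup.map_commutator] at h3
  refine Set.Finite.of_finite_fibers π h3 ?_
  rintro _ ⟨g, hg, rfl⟩
  have : (L : Set G) ∩ π ⁻¹' {π g} ⊆ (fun x => g * x) '' (N : Set G) := by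
    rintro x ⟨_, hx⟩
    refine ⟨g⁻¹ * x, ?_, by simp⟩
    exact QuotientGroup.eq.mp (show (QuotientGroup.mk g : G ⧸ N) = QuotientGroup.mk x from hx.symm)
  exact (h2.image _).subset this

/-- The commutators, and their inverses. -/
def cset (A B : Set G) : Set G := {g | ∃ a ∈ A, ∃ b ∈ B, g = ⁅a, b⁆ ∨ g = ⁅a, b⁆⁻¹}

theorem closure_cset (A B : Subgroup G) :
    Subgroup.closure (cset (A : Set G) (B : Set G)) = ⁅A, B⁆ := by
  apply le_antisymm
  · rw [Subgroup.closure_le]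
    rintro _ ⟨a, ha, b, hb, rfl | rfl⟩
    · exact Subgroup.commutator_mem_commutator ha hb
    · exact inv_mem (Subgroup.commutator_mem_commutator ha hb)
  · rw [Subgroup.commutator_le]
    intro a ha b hb
    exact Subgroup.subset_closure ⟨a, ha, b, hb, Or.inl rfl⟩

theorem one_mem_cset (A B : Subgroup G) : (1 : G) ∈ cset (A : Set G) (B : Set G) :=
  ⟨1, A.one_mem, 1, B.one_mem, Or.inl (by simp)⟩

/-- If modulo the normal subgroup `C` there are only finitely many commutators, then `⁅A, B⁆` is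
covered by finitely many cosets of `C` with representatives in `⁅A, B⁆`. -/
theorem exists_finite_cover (A B C : Subgroup G) [hAn : A.Normal] [hBn : B.Normal] [hCn : C.Normal]
    (A₀ B₀ : Subgroup G) (hA : ∃ F : Set G, F.Finite ∧ ∀ a ∈ A, ∃ a' ∈ F, a' ∈ A ∧ ∃ a₀ ∈ A₀, a = a' * a₀)
    (hB : ∃ F : Set G, F.Finite ∧ ∀ b ∈ B, ∃ b' ∈ F, b' ∈ B ∧ ∃ b₀ ∈ B₀, b = b' * b₀)
    (h1 : ∀ a ∈ A₀, ∀ b ∈ B, ⁅a, b⁆ ∈ C) (h2 : ∀ a ∈ A, ∀ b ∈ B₀, ⁅a, b⁆ ∈ C) :
    ∃ F : Set G, F.Finite ∧ F ⊆ (⁅A, B⁆ : Subgroup G) ∧ ∀ g ∈ ⁅A, B⁆, ∃ d ∈ F, ∃ c ∈ C, g = d * c := by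
  classical
  let π : G →* G ⧸ C := QuotientGroup.mk' C
  have hπ : Function.Surjective π := QuotientGroup.mk'_surjective C
  have hAn' : (A.map π).Normal := hAn.map π hπ
  have hBn' : (B.map π).Normal := hBn.map π hπ
  obtain ⟨FA, hFA, hA⟩ := hA
  obtain ⟨FB, hFB, hB⟩ := hB
  have h3 : ((⁅A.map π, B.map π⁆ : Subgroup (G ⧸ C)) : Set (G ⧸ C)).Finite := by
    apply finite_commutator
    refine ((hFA.prod hFB).image (fun p : G × G => π ⁅p.1, p.2⁆)).subset ?_
    rintro _ ⟨_, ⟨a, ha, rfl⟩, _, ⟨b, hb, rfl⟩, rfl⟩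
    obtain ⟨a', ha', ha'A, a₀, ha₀, rfl⟩ := hA a ha
    obtain ⟨b', hb', hb'B, b₀, hb₀, rfl⟩ := hB b hb
    refine ⟨(a', b'), ⟨ha', hb'⟩, ?_⟩
    rw [← map_commutatorElement]
    apply QuotientGroup.eq.mpr
    -- `⁅a' a₀, b' b₀⁆ = (a' ⁅a₀, b⁆ a'⁻¹) ⁅a', b'⁆ (b' ⁅a', b₀⁆ b'⁻¹)`
    have e : (⁅a', b'⁆)⁻¹ * ⁅a' * a₀, b' * b₀⁆ =
        ((⁅a', b'⁆)⁻¹ * (a' * ⁅a₀, b' * b₀⁆ * a'⁻¹) * ⁅a', b'⁆) * (b' * ⁅a', b₀⁆ * b'⁻¹) := by
      simp only [commutatorElement_def]; group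
    change (⁅a', b'⁆)⁻¹ * ⁅a' * a₀, b' * b₀⁆ ∈ C
    rw [e]
    refine C.mul_mem ?_ (hCn.conj_mem _ (h2 a' ha'A b₀ hb₀) b')
    have h4 := hCn.conj_mem _ (hCn.conj_mem _ (h1 a₀ ha₀ (b' * b₀) hb) a') (⁅a', b'⁆)⁻¹
    simpa using h4
  rw [← Subgroup.map_commutator] at h3
  have h4 : ∀ q ∈ ((⁅A, B⁆ : Subgroup G).map π : Set (G ⧸ C)), ∃ d ∈ ⁅A, B⁆, π d = q := by
    rintro _ ⟨x, hx, rfl⟩; exact ⟨x, hx, rfl⟩
  choose! s hs hs' using h4
  refine ⟨s '' ((⁅A, B⁆ : Subgroup G).map π : Set (G ⧸ C)), h3.image s, ?_, ?_⟩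
  · rintro _ ⟨q, hq, rfl⟩; exact hs q hq
  · intro g hg
    have hq : π g ∈ ((⁅A, B⁆ : Subgroup G).map π : Set (G ⧸ C)) := ⟨g, hg, rfl⟩
    refine ⟨s (π g), ⟨π g, hq, rfl⟩, (s (π g))⁻¹ * g, ?_, by simp⟩
    exact QuotientGroup.eq.mp (hs' _ hq)

/-- Bounded generation of `⁅A, B⁆`. -/
theorem exists_pow_eq_of_cover {L C : Subgroup G} {Y : Set G} (h1 : (1 : G) ∈ Y)
    (hL : (L : Set G) = ⋃ n : ℕ, Y ^ n) {N : ℕ} (hC : (C : Set G) ⊆ Y ^ N)
    (hF : ∃ F : Set G, F.Finite ∧ F ⊆ (L : Set G) ∧ ∀ g ∈ L, ∃ d ∈ F, ∃ c ∈ C, g = d * c) :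
    ∃ M : ℕ, ∀ m, M ≤ m → Y ^ m = (L : Set G) := by
  obtain ⟨F, hF, hFL, hcov⟩ := hF
  have h2 : ∀ d ∈ F, ∃ n : ℕ, d ∈ Y ^ n := by
    intro d hd
    have := hFL hd
    rw [hL, Set.mem_iUnion] at this
    exact this
  choose! n hn using h2
  obtain ⟨M, hM⟩ := (hF.image n).bddAbove
  refine ⟨M + N, fun m hm => Set.Subset.antisymm ?_ ?_⟩
  · rw [hL]; exact Set.subset_iUnion (fun n => Y ^ n) m
  · intro g hg
    obtain ⟨d, hd, c, hc, rfl⟩ := hcov g hg
    have h3 : d ∈ Y ^ M := Set.pow_subset_pow_right h1 (hM ⟨d, hd, rfl⟩) (hn d hd)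
    have h4 : d * c ∈ Y ^ (M + N) := by
      rw [pow_add]
      exact ⟨d, h3, c, hC hc, rfl⟩
    exact Set.pow_subset_pow_right h1 hm h4

end K209.Baer
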