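import Groth.Agent.SGA3.K209.WordComm
import Groth.Agent.S5365
import Mathlib.AlgebraicGeometry.Group.Smooth
import Mathlib.AlgebraicGeometry.Morphisms.SchemeTheoreticallyDominant

/-!
# The commutator subgroup scheme over a field as the image of a single word morphism
-/

set_option autoImplicit false
universe u
open CategoryTheory CategoryTheory.Limits MonoidalCategory CartesianMonoidalCategory MonObj GrpObj
open AlgebraicGeometry TopologicalSpace Topology
open scoped Pointwise commutatorElement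

namespace K209.CommFld

open K209.Words K209.WordSch K209.WordBC K209.WordConn K209.WordNorm K209.WordComm
open Groth.Agent.Sga3.H782 Groth.Agent.Sga3.H782.Points

attribute [local instance] top

section General

variable {S : Scheme.{u}} {X G : Over S} [GrpObj G] (f : X ⟶ G)

theorem wv_cons {T : Over S} {n : ℕ} (x₀ : T ⟶ X) (x : Fin n → (T ⟶ X)) (b : Bool) (ε : Fin n → Bool) :
    wv f (Fin.cons x₀ x : Fin (n + 1) → (T ⟶ X)) (Fin.cons b ε) =
      (if b then x₀ ≫ f else (x₀ ≫ f)⁻¹) * wv f x ε := by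
  rw [wv, List.ofFn_succ, List.prod_cons]
  simp only [Fin.cons_zero, Fin.cons_succ]
  rfl

/-- Every word of length `n` is a word with one fixed sign pattern. -/
theorem exists_alt (x₀ : 𝟙_ (Over S) ⟶ X) (hx₀ : x₀ ≫ f = 1) (n : ℕ) :
    ∃ (N : ℕ) (δ : Fin N → Bool), ∀ (T : Over S) (x : Fin n → (T ⟶ X)) (ε : Fin n → Bool),
      ∃ x' : Fin N → (T ⟶ X), wv f x' δ = wv f x ε := by
  induction n with
  | zero =>
    refine ⟨0, fun j => j.elim0, fun T x ε => ⟨x, ?_⟩⟩
    simp [wv]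
  | succ n ih =>
    obtain ⟨N, δ, h⟩ := ih
    refine ⟨N + 2, Fin.cons true (Fin.cons false δ), fun T x ε => ?_⟩
    obtain ⟨x', hx'⟩ := h T (fun j => x j.succ) (fun j => ε j.succ)
    have e1 : (toUnit T ≫ x₀) ≫ f = 1 := by rw [Category.assoc, hx₀, MonObj.comp_one]
    have e2 : wv f x ε = (if ε 0 then x 0 ≫ f else (x 0 ≫ f)⁻¹) * wv f x' δ := by
      rw [hx', ← wv_cons]
      congr 1
      · exact (Fin.cons_self_tail x).symm
      · exact (Fin.cons_self_tail ε).symm
    by_cases h0 : ε 0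
    · refine ⟨Fin.cons (x 0) (Fin.cons (toUnit T ≫ x₀) x'), ?_⟩
      rw [wv_cons, wv_cons, e2, e1]
      simp [h0]
    · refine ⟨Fin.cons (toUnit T ≫ x₀) (Fin.cons (x 0) x'), ?_⟩
      rw [wv_cons, wv_cons, e2, e1]
      simp [h0]

theorem W_subset_range_uw {n N : ℕ} {δ : Fin N → Bool}
    (h : ∀ (T : Over S) (x : Fin n → (T ⟶ X)) (ε : Fin n → Bool),
      ∃ x' : Fin N → (T ⟶ X), wv f x' δ = wv f x ε) : W f n ⊆ Set.range (uw f N δ).left.base := by
  rintro _ ⟨T, p, x, ε, rfl⟩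
  obtain ⟨x', hx'⟩ := h T x ε
  obtain ⟨t, ht⟩ := exists_tuple x'
  refine ⟨t.left.base p, ?_⟩
  have : wv f x ε = t ≫ uw f N δ := by
    rw [uw, comp_wv, ← hx']
    congr 1
    funext j; exact (ht j).symm
  rw [this]
  exact (Groth.Agent.Sga3C.HomogIrr.comp_left_apply _ _ p).symm

theorem uw_comp_hom {H : Over S} [GrpObj H] (i : G ⟶ H) [IsMonHom i] (n : ℕ) (ε : Fin n → Bool) :
    uw f n ε ≫ i = uw (f ≫ i) n ε := wv_comp_hom f i _ ε

/-- Conjugates of words. -/
theorem conj_wv {T : Over S} {n : ℕ} (g : T ⟶ G) (x x' : Fin n → (T ⟶ X)) (ε : Fin n → Bool)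
    (h : ∀ j, g * (x j ≫ f) * g⁻¹ = x' j ≫ f) : g * wv f x ε * g⁻¹ = wv f x' ε := by
  have e : g * wv f x ε * g⁻¹ = (MulAut.conj g).toMonoidHom (wv f x ε) := rfl
  rw [e, wv, wv, map_list_prod, List.map_ofFn]
  congr 2
  funext j
  simp only [Function.comp]
  by_cases h0 : ε j
  · simp only [h0, if_true]
    exact h j
  · simp only [h0, Bool.false_eq_true, if_false, map_inv]
    congr 1
    exact h j

theorem isPullback_whisker (Z : Over S) {X Y : Over S} (f : X ⟶ Y) :
    IsPullback (Z ◁ f).left (snd Z X).left (snd Z Y).left f.left := by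
  have h : IsPullback (Z ◁ f) (snd Z X) (snd Z Y) f := by
    refine ⟨⟨by simp⟩, ⟨PullbackCone.IsLimit.mk _ (fun s => lift (s.fst ≫ fst _ _) s.snd) ?_ ?_ ?_⟩⟩
    · intro s
      apply CartesianMonoidalCategory.hom_ext
      · simp
      · simp [s.condition]
    · intro s
      simp
    · intro s m h1 h2
      apply CartesianMonoidalCategory.hom_ext
      · simp [← h1]
      · simp [← h2]
  exact h.map (Over.forget _)

omit [GrpObj G] in
/-- A factorization through a closed immersion may be checked on a scheme-theoretically dominant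
morphism. -/
theorem factors_of_dominant {T T' Z : Over S} (i : Z ⟶ G) [IsClosedImmersion i.left] (t : T' ⟶ T)
    [IsSchemeTheoreticallyDominant t.left] (q : T ⟶ G) (h : ∃ c : T' ⟶ Z, c ≫ i = t ≫ q) :
    ∃ c : T ⟶ Z, c ≫ i = q := by
  rw [Groth.Agent.Sga3C.ClosedSub.over_factors_iff] at h ⊢
  rwa [Over.comp_left, Scheme.Hom.ker_comp, t.left.ker_eq_bot, Scheme.IdealSheafData.map_bot] at h

variable {A B : Over S} (a : A ⟶ G) (b : B ⟶ G)

/-- Conjugates of commutators. -/
theorem exists_conj_comm [GrpObj A] [GrpObj B] (hA : AlgGrp.IsNormalHom a) (hB : AlgGrp.IsNormalHom b)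
    {T : Over S} (g : T ⟶ G) (x : T ⟶ A ⊗ B) :
    ∃ x' : T ⟶ A ⊗ B, g * (x ≫ comm a b) * g⁻¹ = x' ≫ comm a b := by
  obtain ⟨y, hy⟩ := hA T g (x ≫ fst A B)
  obtain ⟨z, hz⟩ := hB T g (x ≫ snd A B)
  refine ⟨lift y z, ?_⟩
  rw [lift_comm, comp_comm, ← hy, ← hz]
  simp only [commutatorElement_def]
  group

end General

section Field

variable {k : Type u} [Field k]

/-- **The commutator subgroup scheme over a field.** -/
theorem exists_comm_field (G A B : Over (Spec (CommRingCat.of k))) [GrpObj G] [GrpObj A] [GrpObj B]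
    [LocallyOfFiniteType G.hom] (a : A ⟶ G) [IsMonHom a] [IsClosedImmersion a.left] (b : B ⟶ G) [IsMonHom b]
    [IsClosedImmersion b.left] [GeometricallyReduced A.hom] [GeometricallyReduced B.hom]
    [QuasiCompact A.hom] [QuasiCompact B.hom]
    (hcase : (AlgGrp.IsNormalHom a ∧ AlgGrp.IsNormalHom b ∧ QuasiCompact A.hom) ∨ ConnectedSpace A.left) :
    ∃ (D : Over (Spec (CommRingCat.of k))) (_ : GrpObj D) (d : D ⟶ G) (c : A ⊗ B ⟶ D) (N : ℕ)
      (δ : Fin N → Bool), IsMonHom d ∧ IsClosedImmersion d.left ∧ c ≫ d = comm a b ∧ Smooth D.hom ∧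
      QuasiCompact D.hom ∧ Surjective (uw c N δ).left ∧ (ConnectedSpace A.left → ConnectedSpace D.left) ∧
      (AlgGrp.IsNormalHom a ∧ AlgGrp.IsNormalHom b → AlgGrp.IsNormalHom d) := by
  have hlA : LocallyOfFiniteType A.hom := by rw [← Over.w a]; infer_instance
  have hlB : LocallyOfFiniteType B.hom := by rw [← Over.w b]; infer_instance
  obtain ⟨N₀, hN₀⟩ := exists_isSubgrpSet_comm G A B a b hcase
  obtain ⟨hF, hfr⟩ := hN₀ N₀ le_rfl
  obtain ⟨D, hD, d, hd, hcl, hgr, hr, hfac⟩ := hF.exists_grp (cover_W (comm a b) N₀)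
  obtain ⟨c, hc⟩ := hfac (A ⊗ B) (comm a b) inferInstance hfr
  have hlD : LocallyOfFiniteType D.hom := by rw [← Over.w d]; infer_instance
  have hone : lift (1 : Pts A) (1 : Pts B) ≫ comm a b = 1 := by
    rw [lift_comm, MonObj.one_comp, MonObj.one_comp]
    simp
  obtain ⟨N, δ, hδ⟩ := exists_alt (comm a b) _ hone N₀
  have hmono : Mono d := Groth.Agent.Sga3C.ClosedSub.mono_of_left d
  have hsurj : Surjective (uw c N δ).left := by
    refine ⟨fun y => ?_⟩
    have h1 : d.left.base y ∈ W (comm a b) N₀ := by rw [← hr]; exact ⟨y, rfl⟩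
    obtain ⟨p, hp⟩ := W_subset_range_uw (comm a b) hδ h1
    refine ⟨p, d.left.isClosedEmbedding.injective ?_⟩
    rw [← hp, ← hc, ← uw_comp_hom]
    exact (Groth.Agent.Sga3C.HomogIrr.comp_left_apply _ _ p).symm
  have hDred : IsReduced D.left := isReduced_left D
  have hmin : ∀ (Γ' : Over (Spec (CommRingCat.of k))) (_ : GrpObj Γ') (i' : Γ' ⟶ G), IsMonHom i' →
      IsClosedImmersion i'.left → (∃ f'' : A ⊗ B ⟶ Γ', f'' ≫ i' = comm a b) → ∃ j : D ⟶ Γ', j ≫ i' = d := by
    intro Γ' _ i' _ _ hf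
    refine factors_of_range i' d ?_
    rw [hr]
    exact W_subset_range (comm a b) i' hf N₀
  obtain ⟨hqc, hconn⟩ := Groth.Agent.S5365.result k G A B a b hcase D d ⟨c, hc⟩ hmin
  have hsm : Smooth D.hom := by
    have : GrpObj (Over.mk D.hom) := hD
    exact smooth_of_grpObj D.hom
  refine ⟨D, hD, d, c, N, δ, hd, hcl, hc, hsm, hqc, hsurj, hconn, ?_⟩
  rintro ⟨hA, hB⟩ T g n
  -- the universal conjugate factors through `D`
  let w : P (A ⊗ B) N ⟶ D := uw c N δ
  let q : G ⊗ D ⟶ G := fst G D * (snd G D ≫ d) * (fst G D)⁻¹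
  have hqcw : QuasiCompact w.left := by
    have h1 : QuasiCompact (w.left ≫ D.hom) := by rw [Over.w]; infer_instance
    have h0 : IsLocallyNoetherian D.left := LocallyOfFiniteType.isLocallyNoetherian D.hom
    have h3 : QuasiSeparatedSpace D.left := inferInstance
    have h2 : QuasiSeparated D.hom := QuasiSeparated.of_quasiSeparatedSpace _
    exact QuasiCompact.of_comp w.left D.hom
  have hdomw : IsSchemeTheoreticallyDominant w.left := by
    have : IsDominant w.left := ⟨hsurj.surj.denseRange⟩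
    exact .of_isDominant _
  have hfl : Flat (snd G D).left := by
    have : Flat G.hom := inferInstance
    exact inferInstanceAs (Flat (pullback.snd G.hom D.hom))
  have hdom : IsSchemeTheoreticallyDominant (G ◁ w).left :=
    IsSchemeTheoreticallyDominant.of_isPullback (isPullback_whisker G w).flip
  have hfacq : ∃ c' : G ⊗ D ⟶ D, c' ≫ d = q := by
    refine factors_of_dominant d (G ◁ w) q ?_
    have h1 : ∀ j : Fin N, ∃ x' : G ⊗ P (A ⊗ B) N ⟶ A ⊗ B,
        fst G (P (A ⊗ B) N) * ((snd G (P (A ⊗ B) N) ≫ pr (A ⊗ B) N j) ≫ comm a b) *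
          (fst G (P (A ⊗ B) N))⁻¹ = x' ≫ comm a b := fun j =>
      exists_conj_comm a b hA hB _ _
    choose x' hx' using h1
    refine ⟨wv c x' δ, ?_⟩
    rw [wv_comp_hom, hc, ← conj_wv (comm a b) (fst G (P (A ⊗ B) N)) _ x' δ hx', ← comp_wv]
    change _ = (G ◁ w) ≫ (fst G D * (snd G D ≫ d) * (fst G D)⁻¹)
    rw [MonObj.comp_mul, MonObj.comp_mul, GrpObj.comp_inv, whiskerLeft_fst, whiskerLeft_snd_assoc]
    have e : w ≫ d = wv (comm a b) (pr (A ⊗ B) N) δ := by
      rw [← hc]; exact uw_comp_hom c d N δ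
    rw [e]
  obtain ⟨c', hc'⟩ := hfacq
  refine ⟨lift g n ≫ c', ?_⟩
  rw [Category.assoc, hc']
  simp only [q, MonObj.comp_mul, GrpObj.comp_inv, lift_fst, lift_snd_assoc]

end Field

end K209.CommFld
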