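import Groth.Agent.Sga3.H817.GenericSpread
import Groth.Agent.SGA3.K210.LimHom2

/-!
# The generic point of an integral scheme as a limit of affine open subschemes
-/

set_option autoImplicit false
universe u
open CategoryTheory CategoryTheory.Limits AlgebraicGeometry TopologicalSpace Topology Opposite

namespace K209.GenSys

/-- A cofiltered system of affine open subschemes with limit the generic point. -/
structure Sys (S : Scheme.{u}) [IsIntegral S] where
  /-- index category -/
  J : Type u
  [cat : SmallCategory J]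
  [cof : IsCofiltered J]
  /-- the system -/
  E : J ⥤ Scheme.{u}
  /-- the projections -/
  π : (Functor.const J).obj (Spec (S.residueField (genericPoint S))) ⟶ E
  /-- the limit property -/
  lim : IsLimit (Cone.mk (Spec (S.residueField (genericPoint S))) π)
  [aff : ∀ (i j : J) (φ : i ⟶ j), IsAffineHom (E.map φ)]
  [isAff : ∀ j, IsAffine (E.obj j)]
  /-- the inclusions -/
  t : ∀ j, E.obj j ⟶ S
  w : ∀ {i j : J} (φ : i ⟶ j), E.map φ ≫ t j = t i
  fac : ∀ j, π.app j ≫ t j = S.fromSpecResidueField (genericPoint S)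
  [oi : ∀ j, IsOpenImmersion (t j)]

attribute [instance] Sys.cat Sys.cof Sys.aff Sys.isAff Sys.oi

/-- The limit cone. -/
noncomputable abbrev Sys.cone {S : Scheme.{u}} [IsIntegral S] (X : Sys S) : Cone X.E :=
  Cone.mk (Spec (S.residueField (genericPoint S))) X.π

open Groth.Agent.Ega43.ResSys Groth.Agent.Ega43.ResSysSch Groth.Agent.Sga3.H817.GenericSpread

theorem exists_iso (S : Scheme.{u}) [IsIntegral S] :
    ∃ (R : Type u) (_ : CommRing R) (_ : IsDomain R) (b : Spec (CommRingCat.of R) ⟶ S) (_ : IsOpenImmersion b)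
      (p : Ideal R) (_ : p.IsPrime) (_ : p = ⊥)
      (e : Spec (S.residueField (genericPoint S)) ≅ Spec (CommRingCat.of p.ResidueField)),
      e.hom ≫ Spec.map (CommRingCat.ofHom (algebraMap R p.ResidueField)) ≫ b =
        S.fromSpecResidueField (genericPoint S) := by
  obtain ⟨V, hV, hxV, -⟩ := exists_isAffineOpen_mem_and_subset (x := genericPoint S) (U := ⊤) trivial
  have hne : Nonempty V := ⟨⟨_, hxV⟩⟩
  have hdom : IsDomain Γ(S, V) := inferInstance
  let b : Spec Γ(S, V) ⟶ S := hV.fromSpec
  have hb : b (genericPoint (Spec Γ(S, V))) = genericPoint S := genericPoint_eq_of_isOpenImmersion b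
  let p : PrimeSpectrum Γ(S, V) := genericPoint (Spec Γ(S, V))
  have hp0 : p.asIdeal = ⊥ := by
    have := genericPoint_eq_bot_of_affine Γ(S, V)
    exact congrArg PrimeSpectrum.asIdeal this
  let e1 : Spec (S.residueField (genericPoint S)) ≅ Spec (S.residueField (b p)) :=
    Scheme.Spec.mapIso (S.residueFieldCongr hb).op
  let e2 : Spec (S.residueField (b p)) ≅ Spec ((Spec Γ(S, V)).residueField p) :=
    (asIso (Spec.map (b.residueFieldMap p))).symm
  let e3 : Spec ((Spec Γ(S, V)).residueField p) ≅ Spec (CommRingCat.of p.asIdeal.ResidueField) :=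
    asIso (Spec.map (Scheme.Spec.residueFieldIso Γ(S, V) p).inv)
  refine ⟨Γ(S, V), inferInstance, hdom, b, inferInstance, p.asIdeal, p.isPrime, hp0, e1 ≪≫ e2 ≪≫ e3, ?_⟩
  have h3 : e3.hom ≫ Spec.map (CommRingCat.ofHom (algebraMap Γ(S, V) p.asIdeal.ResidueField)) =
      (Spec Γ(S, V)).fromSpecResidueField p :=
    Scheme.Spec.map_residueFieldIso_inv_eq_fromSpecResidueField _ _
  have h2 : e2.hom ≫ (Spec Γ(S, V)).fromSpecResidueField p ≫ b = S.fromSpecResidueField (b p) := by
    rw [Iso.symm_hom, asIso_inv, IsIso.inv_comp_eq]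
    exact (Scheme.Hom.SpecMap_residueFieldMap_fromSpecResidueField _ _).symm
  have h1 : e1.hom ≫ S.fromSpecResidueField (b p) = S.fromSpecResidueField (genericPoint S) :=
    Scheme.residueFieldCongr_fromSpecResidueField hb
  calc (e1 ≪≫ e2 ≪≫ e3).hom ≫ Spec.map (CommRingCat.ofHom (algebraMap Γ(S, V) p.asIdeal.ResidueField)) ≫ b
      = e1.hom ≫ e2.hom ≫ (e3.hom ≫
          Spec.map (CommRingCat.ofHom (algebraMap Γ(S, V) p.asIdeal.ResidueField))) ≫ b := by simp
    _ = _ := by rw [h3, h2, h1]

theorem exists_sys (S : Scheme.{u}) [IsIntegral S] : Nonempty (Sys S) := by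
  obtain ⟨R, _, _, b, hb, p, hp, hp0, e, he⟩ := exists_iso S
  let K := p.ResidueField
  have hoi : ∀ j : (Idx p)ᵒᵖ, IsOpenImmersion (toBase p j) := fun j => isOpenImmersion_toBase p hp0 j.unop
  let q : ∀ j, Spec (CommRingCat.of p.ResidueField) ⟶ (Groth.Agent.Ega43.ResSysSch.diag p).obj j := fun j => (cone p K).π.app j
  have hq : ∀ {i j : (Idx p)ᵒᵖ} (f : i ⟶ j), q i ≫ (Groth.Agent.Ega43.ResSysSch.diag p).map f = q j := fun f => (cone p K).w f
  let π' : (Functor.const (Idx p)ᵒᵖ).obj (Spec (S.residueField (genericPoint S))) ⟶ Groth.Agent.Ega43.ResSysSch.diag p :=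
    { app := fun j => e.hom ≫ q j
      naturality := by
        intro i j f
        change 𝟙 _ ≫ e.hom ≫ q j = (e.hom ≫ q i) ≫ (Groth.Agent.Ega43.ResSysSch.diag p).map f
        rw [Category.assoc, hq, Category.id_comp] }
  have hl : IsLimit (Cone.mk (Spec (S.residueField (genericPoint S))) π') := by
    refine IsLimit.ofIsoLimit (isLimit p K) (Cone.ext e.symm ?_)
    intro j
    change q j = e.inv ≫ e.hom ≫ q j
    rw [Iso.inv_hom_id_assoc]
  exact ⟨{
    J := (Idx p)ᵒᵖ
    E := Groth.Agent.Ega43.ResSysSch.diag p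
    π := π'
    lim := hl
    t := fun j => toBase p j ≫ b
    w := by
      intro i j φ
      rw [← Category.assoc, map_toBase]
    fac := by
      intro j
      have h := cone_toBase p K j
      change q j ≫ toBase p j = _ at h
      change (e.hom ≫ q j) ≫ toBase p j ≫ b = _
      rw [Category.assoc, ← Category.assoc (q j), h, he] }⟩

end K209.GenSys
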