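import Groth.Agent.SGA3.K209.GenSys
import Groth.Agent.SGA3.K209.Spread
import Groth.Agent.Sga3.H515.GrpModel
import Groth.Agent.Sga3C.ClosedSub

/-!
# Descending subgroups from the generic fibre to an open subscheme
-/

set_option autoImplicit false
universe u
open CategoryTheory CategoryTheory.Limits MonoidalCategory CartesianMonoidalCategory MonObj GrpObj
open AlgebraicGeometry TopologicalSpace Topology

namespace K209.StageSub

open K209.GenSys K210.LimHom Groth.Agent.Ega43.LimitDescend Groth.Agent.Sga3.H515.GrpStage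
open scoped K210.LimHom

section General

variable {S S' : Scheme.{u}} (σ : S' ⟶ S)

/-- Base change of products of points. -/
theorem map_mul' {X G : Over S} [GrpObj G] (x y : X ⟶ G) :
    (Over.pullback σ).map (x * y) = (Over.pullback σ).map x * (Over.pullback σ).map y :=
  Functor.map_mul _ _ _

theorem map_inv'' {X G : Over S} [GrpObj G] (x : X ⟶ G) :
    (Over.pullback σ).map x⁻¹ = ((Over.pullback σ).map x)⁻¹ := Functor.map_inv' _ _

theorem map_one' {X G : Over S} [GrpObj G] :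
    (Over.pullback σ).map (1 : X ⟶ G) = 1 := Functor.map_one _

theorem μ_fst' (X Y : Over S) : (Functor.Monoidal.μIso (Over.pullback σ) X Y).hom ≫
    (Over.pullback σ).map (fst X Y) = fst _ _ := by simp

theorem μ_snd' (X Y : Over S) : (Functor.Monoidal.μIso (Over.pullback σ) X Y).hom ≫
    (Over.pullback σ).map (snd X Y) = snd _ _ := by simp

/-- The base change of a morphism `d` from a group structure on the base change given by factorizations of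
the universal unit, product and inverse. -/
theorem exists_grpObj_of_factor {D G : Over S} [GrpObj G] (d : D ⟶ G) (hm : Mono ((Over.pullback σ).map d))
    (h1 : ∃ v : Red.bc σ (𝟙_ (Over S)) ⟶ Red.bc σ D, v ≫ (Over.pullback σ).map d =
      (Over.pullback σ).map (1 : 𝟙_ (Over S) ⟶ G))
    (h2 : ∃ v : Red.bc σ (D ⊗ D) ⟶ Red.bc σ D, v ≫ (Over.pullback σ).map d =
      (Over.pullback σ).map ((fst D D ≫ d) * (snd D D ≫ d)))
    (h3 : ∃ v : Red.bc σ D ⟶ Red.bc σ D, v ≫ (Over.pullback σ).map d = (Over.pullback σ).map d⁻¹) :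
    ∃ _ : GrpObj (Red.bc σ D), IsMonHom ((Over.pullback σ).map d) := by
  obtain ⟨v1, e1⟩ := h1
  obtain ⟨v2, e2⟩ := h2
  obtain ⟨v3, e3⟩ := h3
  apply Groth.Agent.Sga3C.ClosedSub.exists_grpObj_of_mono
  · refine ⟨Functor.LaxMonoidal.ε (Over.pullback σ) ≫ v1, ?_⟩
    have e : (η[Red.bc σ G] : 𝟙_ (Over S') ⟶ Red.bc σ G) = (1 : 𝟙_ (Over S') ⟶ Red.bc σ G) := by
      rw [Hom.one_def, toUnit_unit, Category.id_comp]
    rw [Category.assoc, e1, map_one', MonObj.comp_one]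
    exact e.symm
  · refine ⟨(Functor.Monoidal.μIso (Over.pullback σ) D D).hom ≫ v2, ?_⟩
    have e : ((Over.pullback σ).map d ⊗ₘ (Over.pullback σ).map d) ≫ μ[Red.bc σ G] =
        (fst _ _ ≫ (Over.pullback σ).map d) * (snd _ _ ≫ (Over.pullback σ).map d) := by
      rw [Hom.mul_def]
      congr 1
    rw [e, Category.assoc, e2, map_mul', MonObj.comp_mul, CategoryTheory.Functor.map_comp,
      CategoryTheory.Functor.map_comp, ← Category.assoc, ← Category.assoc, μ_fst', μ_snd']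
  · refine ⟨v3, ?_⟩
    have e : (Over.pullback σ).map d ≫ ι[Red.bc σ G] = ((Over.pullback σ).map d)⁻¹ := by rw [Hom.inv_def]
    rw [e3, e, map_inv'']

end General

variable {S : Scheme.{u}} [IsIntegral S] (𝒮 : Sys S)

/-- A morphism from an object of finite presentation over the generic point to a base change descends to a
stage. -/
theorem exists_stage_hom (G : Over S) [LocallyOfFinitePresentation G.hom]
    (D' : Over (Spec (S.residueField (genericPoint S)))) [LocallyOfFinitePresentation D'.hom]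
    [QuasiCompact D'.hom] [QuasiSeparated D'.hom]
    (u : D' ⟶ Red.bc (S.fromSpecResidueField (genericPoint S)) G) :
    ∃ (i : 𝒮.J) (D₁ : Over (𝒮.E.obj i)) (_ : LocallyOfFinitePresentation D₁.hom) (_ : QuasiCompact D₁.hom)
      (_ : QuasiSeparated D₁.hom) (d₁ : D₁ ⟶ Red.bc (𝒮.t i) G) (e : Red.bc (𝒮.π.app i) D₁ ≅ D'),
      (Over.pullback (𝒮.π.app i)).map d₁ ≫ (ActBC.bcCompIso (𝒮.π.app i) (𝒮.t i) G (𝒮.fac i)).hom =
        e.hom ≫ u := by
  obtain ⟨j, ⟨M⟩⟩ := Groth.Agent.CalgA.LimFP.Mdl.exists_model 𝒮.lim D'.hom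
  let D₀ : Over (𝒮.E.obj j) := Over.mk M.f
  have l1 : LocallyOfFinitePresentation D₀.hom := M.lfp
  have l2 : QuasiCompact D₀.hom := M.qc
  have l3 : QuasiSeparated D₀.hom := M.qs
  let m : Red.bc (𝒮.π.app j) D₀ ≅ D' := mdlIso (c := 𝒮.cone) M
  let u' : Red.bc (𝒮.π.app j) D₀ ⟶ Red.bc (𝒮.π.app j) (Red.bc (𝒮.t j) G) :=
    m.hom ≫ u ≫ (ActBC.bcCompIso (𝒮.π.app j) (𝒮.t j) G (𝒮.fac j)).inv
  obtain ⟨i, f, v, hv⟩ := exists_map_eq_of 𝒮.lim D₀ (Red.bc (𝒮.t j) G) u'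
  refine ⟨i, Red.bc (𝒮.E.map f) D₀, inferInstance, inferInstance, inferInstance,
    v ≫ (ActBC.bcCompIso (𝒮.E.map f) (𝒮.t j) G (𝒮.w f)).hom,
    ActBC.bcCompIso (𝒮.π.app i) (𝒮.E.map f) D₀ (𝒮.cone.w f) ≪≫ m, ?_⟩
  have h1 := bcCompIso_assoc (𝒮.π.app i) (𝒮.E.map f) (𝒮.t j) (𝒮.cone.w f) (𝒮.w f) (𝒮.fac j) (𝒮.fac i) G
  rw [CategoryTheory.Functor.map_comp, Category.assoc, h1]
  have hv' : (Over.pullback (𝒮.π.app i)).map v =
      (ActBC.bcCompIso (𝒮.π.app i) (𝒮.E.map f) D₀ (𝒮.cone.w f)).hom ≫ u' ≫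
        (ActBC.bcCompIso (𝒮.π.app i) (𝒮.E.map f) (Red.bc (𝒮.t j) G) (𝒮.cone.w f)).inv := hv
  rw [← Category.assoc, hv']
  simp only [Category.assoc, Iso.inv_hom_id_assoc, u', Iso.trans_hom]
  rw [Iso.inv_hom_id, Category.comp_id]

/-- The group structure on the base change of a stage. -/
theorem exists_grpObj_bc {G : Over S} [GrpObj G] {i : 𝒮.J} (D₁ : Over (𝒮.E.obj i))
    (D' : Over (Spec (S.residueField (genericPoint S)))) [GrpObj D']
    (u : D' ⟶ Red.bc (S.fromSpecResidueField (genericPoint S)) G) [IsMonHom u] [IsClosedImmersion u.left]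
    (d₁ : D₁ ⟶ Red.bc (𝒮.t i) G) (e : Red.bc (𝒮.π.app i) D₁ ≅ D')
    (he : (Over.pullback (𝒮.π.app i)).map d₁ ≫ (ActBC.bcCompIso (𝒮.π.app i) (𝒮.t i) G (𝒮.fac i)).hom =
        e.hom ≫ u) :
    IsClosedImmersion ((Over.pullback (𝒮.π.app i)).map d₁).left ∧
      ∃ _ : GrpObj (Red.bc (𝒮.π.app i) D₁), IsMonHom ((Over.pullback (𝒮.π.app i)).map d₁) ∧ IsMonHom e.hom := by
  have h1 : (Over.pullback (𝒮.π.app i)).map d₁ =
      e.hom ≫ u ≫ (ActBC.bcCompIso (𝒮.π.app i) (𝒮.t i) G (𝒮.fac i)).inv := by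
    rw [← Category.assoc, ← he, Category.assoc, Iso.hom_inv_id, Category.comp_id]
  let _ : GrpObj (Red.bc (𝒮.π.app i) D₁) := GrpObj.ofIso e.symm
  have h2 : IsMonHom e.hom := by
    have h0 : IsMonHom e.symm.hom := isMonHom_ofIso e.symm
    exact inferInstanceAs (IsMonHom e.symm.inv)
  refine ⟨?_, inferInstance, ?_, h2⟩
  · rw [h1, Over.comp_left, Over.comp_left]
    have h3 : IsIso e.hom.left := inferInstanceAs (IsIso ((Over.forget _).map e.hom))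
    have h4 : IsIso (ActBC.bcCompIso (𝒮.π.app i) (𝒮.t i) G (𝒮.fac i)).inv.left :=
      inferInstanceAs (IsIso ((Over.forget _).map (ActBC.bcCompIso (𝒮.π.app i) (𝒮.t i) G (𝒮.fac i)).inv))
    infer_instance
  · rw [h1]
    infer_instance

/-- Factorizations persist at later stages. -/
def Fac {i : 𝒮.J} {X Y Z : Over (𝒮.E.obj i)} (a : X ⟶ Z) (b : Y ⟶ Z) (i' : 𝒮.J) (f : i' ⟶ i) : Prop :=
  ∃ v : Red.bc (𝒮.E.map f) X ⟶ Red.bc (𝒮.E.map f) Y,
    v ≫ (Over.pullback (𝒮.E.map f)).map b = (Over.pullback (𝒮.E.map f)).map a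

variable {𝒮} in
theorem Fac.move {i : 𝒮.J} {X Y Z : Over (𝒮.E.obj i)} {a : X ⟶ Z} {b : Y ⟶ Z} {i' i'' : 𝒮.J} (g : i'' ⟶ i')
    (f : i' ⟶ i) (h : Fac 𝒮 a b i' f) : Fac 𝒮 a b i'' (g ≫ f) := by
  obtain ⟨v, hv⟩ := h
  refine ⟨mv (𝒮.E.map g) (𝒮.E.map f) (𝒮.E.map_comp g f).symm v, ?_⟩
  rw [← mv_map (𝒮.E.map g) (𝒮.E.map f) (𝒮.E.map_comp g f).symm b, ← mv_comp, hv, mv_map]

theorem exists_fac {i : 𝒮.J} {X Y Z : Over (𝒮.E.obj i)} [QuasiCompact X.hom] [QuasiSeparated X.hom]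
    [LocallyOfFinitePresentation Y.hom] [LocallyOfFiniteType Z.hom] (a : X ⟶ Z) (b : Y ⟶ Z)
    (h : ∃ w : Red.bc (𝒮.π.app i) X ⟶ Red.bc (𝒮.π.app i) Y,
      w ≫ (Over.pullback (𝒮.π.app i)).map b = (Over.pullback (𝒮.π.app i)).map a) :
    ∃ (i' : 𝒮.J) (f : i' ⟶ i), Fac 𝒮 a b i' f := by
  obtain ⟨w, hw⟩ := h
  obtain ⟨i', f, v, -, hv⟩ := exists_factor 𝒮.lim a b w hw
  exact ⟨i', f, v, hv⟩

variable {𝒮} in
/-- The compatibility with the generic fibre persists at later stages. -/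
theorem compat_move {G : Over S} {i i' : 𝒮.J} (f : i' ⟶ i) {D₁ : Over (𝒮.E.obj i)}
    {D' : Over (Spec (S.residueField (genericPoint S)))}
    {u : D' ⟶ Red.bc (S.fromSpecResidueField (genericPoint S)) G}
    {d₁ : D₁ ⟶ Red.bc (𝒮.t i) G} {e : Red.bc (𝒮.π.app i) D₁ ≅ D'}
    (he : (Over.pullback (𝒮.π.app i)).map d₁ ≫ (ActBC.bcCompIso (𝒮.π.app i) (𝒮.t i) G (𝒮.fac i)).hom =
        e.hom ≫ u) :
    (Over.pullback (𝒮.π.app i')).map ((Over.pullback (𝒮.E.map f)).map d₁ ≫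
      (ActBC.bcCompIso (𝒮.E.map f) (𝒮.t i) G (𝒮.w f)).hom) ≫
        (ActBC.bcCompIso (𝒮.π.app i') (𝒮.t i') G (𝒮.fac i')).hom =
      (ActBC.bcCompIso (𝒮.π.app i') (𝒮.E.map f) D₁ (𝒮.cone.w f) ≪≫ e).hom ≫ u := by
  have h1 := bcCompIso_assoc (𝒮.π.app i') (𝒮.E.map f) (𝒮.t i) (𝒮.cone.w f) (𝒮.w f) (𝒮.fac i) (𝒮.fac i') G
  have h2 := ActBC.bcCompIso_hom_naturality (𝒮.π.app i') (𝒮.E.map f) (𝒮.cone.w f) d₁
  rw [CategoryTheory.Functor.map_comp, Category.assoc, h1, ← Category.assoc, h2, Category.assoc, he]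
  simp

/-- **A closed subgroup of the generic fibre descends to an open subscheme.** -/
theorem exists_stage_subgroup (G : Over S) [GrpObj G] [LocallyOfFinitePresentation G.hom]
    [QuasiCompact G.hom] [QuasiSeparated G.hom]
    (D' : Over (Spec (S.residueField (genericPoint S)))) [GrpObj D'] [LocallyOfFinitePresentation D'.hom]
    [QuasiCompact D'.hom] [QuasiSeparated D'.hom]
    (u : D' ⟶ Red.bc (S.fromSpecResidueField (genericPoint S)) G) [IsMonHom u] [IsClosedImmersion u.left] :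
    ∃ (i : 𝒮.J) (D₁ : Over (𝒮.E.obj i)) (_ : GrpObj D₁) (_ : LocallyOfFinitePresentation D₁.hom)
      (_ : QuasiCompact D₁.hom) (_ : QuasiSeparated D₁.hom) (d₁ : D₁ ⟶ Red.bc (𝒮.t i) G)
      (e : Red.bc (𝒮.π.app i) D₁ ≅ D'), IsMonHom d₁ ∧ IsClosedImmersion d₁.left ∧
      (Over.pullback (𝒮.π.app i)).map d₁ ≫ (ActBC.bcCompIso (𝒮.π.app i) (𝒮.t i) G (𝒮.fac i)).hom =
        e.hom ≫ u := by
  obtain ⟨i, D₁, l1, l2, l3, d₁, e, he⟩ := exists_stage_hom 𝒮 G D' u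
  obtain ⟨hcl, hgrp, hmon, -⟩ := exists_grpObj_bc 𝒮 D₁ D' u d₁ e he
  have s1 := exists_prop_map 𝒮.lim Groth.Agent.Ega43.LimitDescendClosed.descendsLim_isClosedImmersion d₁ hcl
  have u1 : QuasiCompact (𝟙_ (Over (𝒮.E.obj i))).hom := inferInstanceAs (QuasiCompact (𝟙 _))
  have u2 : QuasiSeparated (𝟙_ (Over (𝒮.E.obj i))).hom := inferInstanceAs (QuasiSeparated (𝟙 _))
  have s2 := exists_fac 𝒮 (1 : 𝟙_ (Over (𝒮.E.obj i)) ⟶ Red.bc (𝒮.t i) G) d₁ ⟨1, by
    rw [map_one', MonObj.one_comp]⟩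
  have s3 := exists_fac 𝒮 ((fst D₁ D₁ ≫ d₁) * (snd D₁ D₁ ≫ d₁)) d₁
    ⟨(Over.pullback (𝒮.π.app i)).map (fst D₁ D₁) * (Over.pullback (𝒮.π.app i)).map (snd D₁ D₁), by
      rw [map_mul', MonObj.mul_comp, CategoryTheory.Functor.map_comp, CategoryTheory.Functor.map_comp]⟩
  have s4 := exists_fac 𝒮 d₁⁻¹ d₁ ⟨(𝟙 _)⁻¹, by
    rw [map_inv'', GrpObj.inv_comp, Category.id_comp]⟩
  obtain ⟨i', f, h1, h2, h3, h4⟩ := stage_and (fun g f h => prop_map_comp (𝒮.E.map g) (𝒮.E.map f)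
    (𝒮.E.map_comp g f).symm (P := @IsClosedImmersion) d₁ h) (fun g f h => And.intro (Fac.move g f h.1)
      (And.intro (Fac.move g f h.2.1) (Fac.move g f h.2.2))) s1
    (stage_and Fac.move (fun g f h => And.intro (Fac.move g f h.1) (Fac.move g f h.2)) s2
      (stage_and Fac.move Fac.move s3 s4))
  have hmono : Mono ((Over.pullback (𝒮.E.map f)).map d₁) :=
    Groth.Agent.Sga3C.ClosedSub.mono_of_left _
  obtain ⟨hgrp', hmon'⟩ := exists_grpObj_of_factor (𝒮.E.map f) d₁ hmono h2 h3 h4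
  refine ⟨i', Red.bc (𝒮.E.map f) D₁, hgrp', inferInstance, inferInstance, inferInstance,
    (Over.pullback (𝒮.E.map f)).map d₁ ≫ (ActBC.bcCompIso (𝒮.E.map f) (𝒮.t i) G (𝒮.w f)).hom,
    ActBC.bcCompIso (𝒮.π.app i') (𝒮.E.map f) D₁ (𝒮.cone.w f) ≪≫ e, inferInstance, ?_, compat_move f he⟩
  have h5 : IsIso (ActBC.bcCompIso (𝒮.E.map f) (𝒮.t i) G (𝒮.w f)).hom.left :=
      inferInstanceAs (IsIso ((Over.forget _).map (ActBC.bcCompIso (𝒮.E.map f) (𝒮.t i) G (𝒮.w f)).hom))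
  rw [Over.comp_left]
  infer_instance

end K209.StageSub
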