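import Groth.Agent.Sga3.H782.TopGrp
import Mathlib.Algebra.Group.Pointwise.Set.BigOperators
import Mathlib.Algebra.Group.Pointwise.Set.ListOfFn
import Mathlib.Algebra.Group.Subgroup.Pointwise
import Mathlib.Algebra.Group.Subgroup.Finite

/-!
# Generated subgroups in groups with a Zariski-like topology

`Γ` is a group with a Noetherian finite-dimensional topology such that translations and inversion are
continuous.  If `Y` is a preconnected set containing `1` such that every power of `Y` (with irreducible closure)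
contains a nonempty open subset of its closure, then some power of `Y` is a closed irreducible subgroup.
-/

open Set TopologicalSpace
open scoped Pointwise
open Groth.Agent.Sga3.H782.TopGrp

namespace K209.WordTop

variable {Γ : Type*} [Group Γ]

theorem pow_subset_pow {Y : Set Γ} (h1 : (1 : Γ) ∈ Y) {m n : ℕ} (h : m ≤ n) : Y ^ m ⊆ Y ^ n :=
  Set.pow_subset_pow_right h1 h

theorem pow_subset_closure (Y : Set Γ) (n : ℕ) : Y ^ n ⊆ (Subgroup.closure Y : Set Γ) := by
  rintro g hn
  obtain ⟨y, rfl⟩ := Set.mem_pow.mp hn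
  refine Subgroup.list_prod_mem _ fun z hz => ?_
  rw [List.mem_ofFn] at hz
  obtain ⟨j, rfl⟩ := hz
  exact Subgroup.subset_closure (y j).2

variable [TopologicalSpace Γ] (h : ZarCont Γ)

include h

theorem isPreirreducible_mul {V W : Set Γ} (hV : IsPreirreducible V) (hW : IsPreirreducible W) :
    IsPreirreducible (V * W) := by
  rintro U₁ U₂ hU₁ hU₂ ⟨_, ⟨v₁, hv₁, w₁, hw₁, rfl⟩, h₁⟩ ⟨_, ⟨v₂, hv₂, w₂, hw₂, rfl⟩, h₂⟩
  obtain ⟨v, hv, hva, hvb⟩ := hV _ _ (hU₁.preimage (h.right w₁)) (hU₂.preimage (h.right w₂))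
    ⟨v₁, hv₁, h₁⟩ ⟨v₂, hv₂, h₂⟩
  obtain ⟨w, hw, hwa, hwb⟩ := hW _ _ (hU₁.preimage (h.left v)) (hU₂.preimage (h.left v))
    ⟨w₁, hw₁, hva⟩ ⟨w₂, hw₂, hvb⟩
  exact ⟨v * w, ⟨v, hv, w, hw, rfl⟩, hwa, hwb⟩

theorem isIrreducible_mul {V W : Set Γ} (hV : IsIrreducible V) (hW : IsIrreducible W) :
    IsIrreducible (V * W) :=
  ⟨hV.1.mul hW.1, isPreirreducible_mul h hV.2 hW.2⟩

theorem closure_mul_closure_subset (A B : Set Γ) : closure A * closure B ⊆ closure (A * B) := by
  have h1 : ∀ a ∈ A, ∀ b ∈ closure B, a * b ∈ closure (A * B) := fun a ha b hb =>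
    map_mem_closure (h.left a) hb fun z hz => ⟨a, ha, z, hz, rfl⟩
  rintro _ ⟨a, ha, b, hb, rfl⟩
  have h2 : (fun x : Γ => x * b) a ∈ closure (closure (A * B)) :=
    map_mem_closure (f := fun x : Γ => x * b) (h.right b) ha fun z hz => h1 z hz b hb
  simpa using h2

/-- Right translation as a homeomorphism. -/
def rightHomeo (g : Γ) : Γ ≃ₜ Γ where
  toFun := fun x => x * g
  invFun := fun x => x * g⁻¹
  left_inv := fun x => by simp
  right_inv := fun x => by simp
  continuous_toFun := h.right g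
  continuous_invFun := h.right g⁻¹

/-- Right translation of an irreducible closed set. -/
def trIC (g : Γ) (V : IrreducibleCloseds Γ) : IrreducibleCloseds Γ where
  carrier := (rightHomeo h g) '' (V : Set Γ)
  isIrreducible' := V.isIrreducible.image _ (h.right g).continuousOn
  isClosed' := (rightHomeo h g).isClosedMap _ V.isClosed

theorem coe_trIC (g : Γ) (V : IrreducibleCloseds Γ) :
    (trIC h g V : Set Γ) = (fun x => x * g) '' (V : Set Γ) := rfl

theorem trIC_strictMono (g : Γ) : StrictMono (trIC h g) := by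
  intro V V' hVV'
  have h1 : (V : Set Γ) ⊂ (V' : Set Γ) := hVV'
  have h2 : (trIC h g V : Set Γ) ⊂ (trIC h g V' : Set Γ) := by
    rw [coe_trIC, coe_trIC]
    exact Function.Injective.image_strictMono (mul_left_injective g) h1
  exact h2

/-- **Borel's theorem**, first part: some power is dense. -/
theorem exists_closure_pow [NoetherianSpace Γ] {d : ℕ} (hd : topologicalKrullDim Γ ≤ d)
    {Y : Set Γ} (h1 : (1 : Γ) ∈ Y) (hY : IsPreconnected Y) :
    ∃ n : ℕ, IsIrreducible (closure (Y ^ n)) ∧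
      closure (Y ^ n) = closure (Subgroup.closure Y : Set Γ) := by
  classical
  -- irreducible closed sets in the closures of the powers, of maximal height
  let 𝒮 : Set (IrreducibleCloseds Γ) := {V | ∃ n : ℕ, (V : Set Γ) ⊆ closure (Y ^ n)}
  have hheight : ∀ V : IrreducibleCloseds Γ, Order.height V ≤ d := by
    intro V
    have h2 := (Order.height_le_krullDim V).trans hd
    exact_mod_cast h2
  let A : Set ℕ := {m | ∃ V ∈ 𝒮, Order.height V = m}
  have hAb : BddAbove A := by
    refine ⟨d, ?_⟩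
    rintro m ⟨V, _, hV⟩
    have := hheight V
    rw [hV] at this
    exact_mod_cast this
  have hcoe : ∀ V ∈ 𝒮, ∃ m ∈ A, Order.height V = m := by
    intro V hV
    obtain ⟨m, hm⟩ := ENat.ne_top_iff_exists.mp (ne_top_of_le_ne_top (ENat.natCast_ne_top d) (hheight V))
    exact ⟨m, ⟨V, hV, hm.symm⟩, hm.symm⟩
  have hne : A.Nonempty := by
    let V₀ : IrreducibleCloseds Γ :=
      ⟨closure {1}, isIrreducible_singleton.closure, isClosed_closure⟩
    have hV₀ : V₀ ∈ 𝒮 := ⟨0, by change closure {1} ⊆ closure (Y ^ 0); rw [pow_zero, Set.singleton_one]⟩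
    obtain ⟨m, hm, _⟩ := hcoe V₀ hV₀
    exact ⟨m, hm⟩
  obtain ⟨V, ⟨n, hVn⟩, hVm⟩ := Nat.sSup_mem hne hAb
  have hmax : ∀ V' ∈ 𝒮, Order.height V' ≤ Order.height V := by
    intro V' hV'
    obtain ⟨m, hm, hm'⟩ := hcoe V' hV'
    rw [hm', hVm]
    exact_mod_cast le_csSup hAb hm
  -- step 1
  have step1 : ∀ W : Set Γ, IsIrreducible W → (∃ m : ℕ, W ⊆ closure (Y ^ m)) → ∀ w ∈ W,
      (fun x => x * w) '' (V : Set Γ) = closure ((V : Set Γ) * W) := by
    rintro W hW ⟨m, hWm⟩ w hw
    let VW : IrreducibleCloseds Γ :=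
      ⟨closure ((V : Set Γ) * W), (isIrreducible_mul h V.isIrreducible hW).closure, isClosed_closure⟩
    have hVW : VW ∈ 𝒮 := by
      refine ⟨n + m, ?_⟩
      refine closure_minimal ?_ isClosed_closure
      calc (V : Set Γ) * W ⊆ closure (Y ^ n) * closure (Y ^ m) := Set.mul_subset_mul hVn hWm
        _ ⊆ closure (Y ^ n * Y ^ m) := closure_mul_closure_subset h _ _
        _ = closure (Y ^ (n + m)) := by rw [pow_add]
    have hle : trIC h w V ≤ VW := by
      change (fun x => x * w) '' (V : Set Γ) ⊆ closure ((V : Set Γ) * W)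
      rintro _ ⟨v, hv, rfl⟩
      exact subset_closure ⟨v, hv, w, hw, rfl⟩
    rcases hle.eq_or_lt with heq | hlt
    · exact congrArg (fun Z : IrreducibleCloseds Γ => (Z : Set Γ)) heq
    · exfalso
      have h3 : Order.height (trIC h w V) < Order.height VW :=
        Order.height_strictMono hlt
          (lt_of_le_of_lt (hheight _) (ENat.natCast_lt_top d))
      have h4 : Order.height V ≤ Order.height (trIC h w V) :=
        Order.height_le_height_apply_of_strictMono _ (trIC_strictMono h w) V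
      exact absurd (hmax VW hVW) (not_le.mpr (h4.trans_lt h3))
  -- step 2
  obtain ⟨F, hFfin, hFcl, hFirr, hFeq⟩ :=
    NoetherianSpace.exists_finite_set_isClosed_irreducible (isClosed_closure (s := Y))
  let St : Set Γ := {w | (fun x => x * w) '' (V : Set Γ) = V}
  have hconst : ∀ t ∈ F, t ⊆ St ∨ Disjoint t St := by
    intro t ht
    by_cases hts : (t ∩ St).Nonempty
    · left
      obtain ⟨w₀, hw₀, hw₀'⟩ := hts
      have htY : ∃ m : ℕ, t ⊆ closure (Y ^ m) := by
        refine ⟨1, ?_⟩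
        rw [pow_one, hFeq]
        exact subset_sUnion_of_mem ht
      intro w hw
      have e1 := step1 t (hFirr t ht) htY w hw
      have e2 := step1 t (hFirr t ht) htY w₀ hw₀
      change (fun x => x * w) '' (V : Set Γ) = V
      rw [e1, ← e2]
      exact hw₀'
    · right
      rw [Set.disjoint_iff_inter_eq_empty]
      exact Set.not_nonempty_iff_eq_empty.mp hts
  have hYSt : closure Y ⊆ St := by
    by_contra hcon
    obtain ⟨w₁, hw₁, hw₁'⟩ := Set.not_subset.mp hcon
    let t₁ : Set Γ := ⋃₀ {t ∈ F | t ⊆ St}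
    let t₂ : Set Γ := ⋃₀ {t ∈ F | Disjoint t St}
    have ht₁ : IsClosed t₁ := by
      change IsClosed (⋃₀ _)
      rw [Set.sUnion_eq_biUnion]
      exact (hFfin.subset (Set.sep_subset _ _)).isClosed_biUnion fun t ht => hFcl t ht.1
    have ht₂ : IsClosed t₂ := by
      change IsClosed (⋃₀ _)
      rw [Set.sUnion_eq_biUnion]
      exact (hFfin.subset (Set.sep_subset _ _)).isClosed_biUnion fun t ht => hFcl t ht.1
    have hcov : closure Y ⊆ t₁ ∪ t₂ := by
      intro y hy
      rw [hFeq] at hy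
      obtain ⟨t, ht, hyt⟩ := hy
      rcases hconst t ht with h2 | h2
      · exact Or.inl ⟨t, ⟨ht, h2⟩, hyt⟩
      · exact Or.inr ⟨t, ⟨ht, h2⟩, hyt⟩
    have hSt1 : (1 : Γ) ∈ St := by
      change (fun x => x * 1) '' (V : Set Γ) = V
      simp
    have h1t : (closure Y ∩ t₁).Nonempty := by
      refine ⟨1, subset_closure h1, ?_⟩
      rcases hcov (subset_closure h1) with h2 | ⟨t, ⟨ht, hdis⟩, h1t⟩
      · exact h2
      · exact absurd hSt1 (Set.disjoint_left.mp hdis h1t)
    have h2t : (closure Y ∩ t₂).Nonempty := by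
      refine ⟨w₁, hw₁, ?_⟩
      rcases hcov hw₁ with ⟨t, ⟨ht, hsub⟩, hwt⟩ | h2
      · exact absurd (hsub hwt) hw₁'
      · exact h2
    obtain ⟨z, _, ⟨t, ⟨_, hts⟩, hzt⟩, ⟨t', ⟨_, hts'⟩, hzt'⟩⟩ :=
      isPreconnected_closed_iff.mp hY.closure t₁ t₂ ht₁ ht₂ hcov h1t h2t
    exact Set.disjoint_left.mp hts' hzt' (hts hzt)
  -- the stabilizer contains the generated subgroup
  have hstab : ∀ g ∈ Subgroup.closure Y, g ∈ St := by
    intro g hg
    induction hg using Subgroup.closure_induction with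
    | mem x hx => exact hYSt (subset_closure hx)
    | one => change (fun x => x * 1) '' (V : Set Γ) = V; simp
    | mul x y _ _ hx hy =>
      change (fun z => z * (x * y)) '' (V : Set Γ) = V
      have hx' : (fun z => z * x) '' (V : Set Γ) = V := hx
      have hy' : (fun z => z * y) '' (V : Set Γ) = V := hy
      calc (fun z => z * (x * y)) '' (V : Set Γ)
          = (fun z => z * y) '' ((fun z => z * x) '' (V : Set Γ)) := by
            rw [Set.image_image]; simp only [mul_assoc]
        _ = V := by rw [hx', hy']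
    | inv x _ hx =>
      change (fun z => z * x⁻¹) '' (V : Set Γ) = V
      have hx' : (fun z => z * x) '' (V : Set Γ) = V := hx
      calc (fun z => z * x⁻¹) '' (V : Set Γ)
          = (fun z => z * x⁻¹) '' ((fun z => z * x) '' (V : Set Γ)) := by rw [hx']
        _ = V := by rw [Set.image_image]; simp
  -- step 3
  let D := Subgroup.closure Y
  obtain ⟨v, hv⟩ := V.isIrreducible.nonempty
  have hVC : (V : Set Γ) ⊆ (h.cl D : Set Γ) := by
    refine hVn.trans ?_
    rw [h.coe_cl]
    exact closure_mono (pow_subset_closure Y n)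
  have hCV : (h.cl D : Set Γ) ⊆ V := by
    -- `v * D ⊆ V`, hence `v * closure D ⊆ V`
    have h5 : ∀ g ∈ (h.cl D : Set Γ), v * g ∈ (V : Set Γ) := by
      intro g hg
      have h6 : (fun x => v * x) g ∈ closure (V : Set Γ) :=
        map_mem_closure (h.left v) hg fun z hz => by
          have h7 := hstab z hz
          have h8 : (fun x => x * z) '' (V : Set Γ) = V := h7
          rw [← h8]
          exact ⟨v, hv, rfl⟩
      rwa [V.isClosed.closure_eq] at h6
    intro c hc
    have h7 := h5 (v⁻¹ * c) ((h.cl D).mul_mem ((h.cl D).inv_mem (hVC hv)) hc)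
    simpa using h7
  have hfinal : closure (Y ^ n) = closure (D : Set Γ) := by
    apply Subset.antisymm
    · exact closure_mono (pow_subset_closure Y n)
    · rw [← h.coe_cl]
      exact hCV.trans hVn
  refine ⟨n, ?_, hfinal⟩
  rw [hfinal, ← h.coe_cl, ← Subset.antisymm hVC hCV]
  exact V.isIrreducible

/-- **Borel's theorem**: some power of `Y` is a closed irreducible subgroup. -/
theorem exists_pow_eq [NoetherianSpace Γ] {d : ℕ} (hd : topologicalKrullDim Γ ≤ d)
    {Y : Set Γ} (h1 : (1 : Γ) ∈ Y) (hY : IsPreconnected Y)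
    (hopen : ∀ n : ℕ, IsIrreducible (closure (Y ^ n)) → ∃ U : Set Γ, IsOpen U ∧
      (U ∩ closure (Y ^ n)).Nonempty ∧ U ∩ closure (Y ^ n) ⊆ Y ^ n) :
    ∃ N : ℕ, ∀ m : ℕ, N ≤ m → Y ^ m = (Subgroup.closure Y : Set Γ) ∧ IsClosed (Y ^ m) ∧
      IsIrreducible (Y ^ m) := by
  obtain ⟨n, hirr, hcl⟩ := exists_closure_pow h hd h1 hY
  obtain ⟨U, hU, hne, hsub⟩ := hopen n hirr
  set D := Subgroup.closure Y with hD
  have hC : closure (Y ^ n) = (h.cl D : Set Γ) := by rw [h.coe_cl]; exact hcl
  have key : (h.cl D : Set Γ) ⊆ Y ^ (n + n) := by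
    intro c hc
    have hcont : Continuous fun x : Γ => x⁻¹ * c := (h.right c).comp h.inv
    obtain ⟨o, hoU, hoC⟩ := hne
    rw [hC] at hoC
    have hx : ((h.cl D : Set Γ) ∩ ((fun x : Γ => x⁻¹ * c) ⁻¹' U)).Nonempty := by
      refine ⟨c * o⁻¹, (h.cl D).mul_mem hc ((h.cl D).inv_mem hoC), ?_⟩
      change (c * o⁻¹)⁻¹ * c ∈ U
      have : (c * o⁻¹)⁻¹ * c = o := by group
      rwa [this]
    rw [hC] at hirr
    obtain ⟨x, hxC, hxU, hxU'⟩ := hirr.2 U _ hU (hU.preimage hcont) ⟨o, hoC, hoU⟩ hx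
    have hx1 : x ∈ Y ^ n := hsub ⟨hxU, by rw [hC]; exact hxC⟩
    have hx2 : x⁻¹ * c ∈ Y ^ n :=
      hsub ⟨hxU', by rw [hC]; exact (h.cl D).mul_mem ((h.cl D).inv_mem hxC) hc⟩
    rw [pow_add]
    exact ⟨x, hx1, x⁻¹ * c, hx2, by simp⟩
  refine ⟨n + n, fun m hm => ?_⟩
  have h3 : Y ^ m = (h.cl D : Set Γ) := by
    apply Subset.antisymm
    · exact (pow_subset_closure Y m).trans (h.le_cl D)
    · exact key.trans (pow_subset_pow h1 hm)
  refine ⟨?_, ?_, ?_⟩
  · apply Subset.antisymm (pow_subset_closure Y m)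
    rw [h3]
    exact h.le_cl D
  · rw [h3]; exact h.isClosed_cl D
  · rw [h3, ← hC]; exact hirr

end K209.WordTop
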