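import Groth.Agent.SGA3.K209.Words
import Groth.Agent.SGA3.K209.WordTop
import Groth.Agent.SGA3.K209.Baer
import Groth.Agent.Ega3A.ConstrTopBasic
import Groth.Agent.Sga3.H782.LocBound
import Mathlib.RingTheory.KrullDimension.Polynomial
import Mathlib.AlgebraicGeometry.Morphisms.FinitePresentation

/-!
# Words in group schemes over an algebraically closed field

Constructibility, dimension, closedness, and the two bounded generation theorems (Borel's theorem, and
commutators of two normal subgroups).
-/

set_option autoImplicit false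
universe u
open CategoryTheory CategoryTheory.Limits MonoidalCategory CartesianMonoidalCategory MonObj GrpObj
open AlgebraicGeometry TopologicalSpace Topology
open scoped Pointwise commutatorElement

namespace K209.WordSch

open K209.Words Groth.Agent.Sga3.H782 Groth.Agent.Sga3.H782.Points

attribute [local instance] top

section Top

/-- Preimages of constructible sets under continuous maps from Noetherian spaces are constructible. -/
theorem isConstructible_preimage {X Y : Type*} [TopologicalSpace X] [TopologicalSpace Y]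
    [NoetherianSpace X] {f : X → Y} (hf : Continuous f) {s : Set Y} (hs : IsConstructible s) :
    IsConstructible (f ⁻¹' s) :=
  hs.preimage hf fun _ _ _ _ _ _ => NoetherianSpace.isCompact _

/-- A nonempty locally constructible subset of a Jacobson space contains a closed point. -/
theorem exists_closedPoint {X : Type*} [TopologicalSpace X] [JacobsonSpace X]
    {C : Set X} (hC : IsLocallyConstructible C) (hne : C.Nonempty) :
    (C ∩ closedPoints X).Nonempty := by
  obtain ⟨u, hu⟩ := hne
  obtain ⟨W, hW, hWo, hWC⟩ := hC u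
  have huW : u ∈ W := mem_of_mem_nhds hW
  have hirr : IsIrreducible (closure ({(⟨u, huW⟩ : W)} : Set W)) := isIrreducible_singleton.closure
  rcases Groth.Agent.Ega3A.ConstrTopBasic.dichotomy hWC hirr with ⟨U, hU, hne, hsub⟩ | ⟨U, hU, hne, hsub⟩
  · -- the locally closed set
    have h1 : IsLocallyClosed (Subtype.val '' (U ∩ closure ({(⟨u, huW⟩ : W)} : Set W)) : Set X) := by
      have h2 : IsLocallyClosed (U ∩ closure ({(⟨u, huW⟩ : W)} : Set W)) :=
        ⟨U, _, hU, isClosed_closure, rfl⟩
      exact h2.image Topology.IsInducing.subtypeVal (by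
        rw [Subtype.range_coe]; exact hWo.isLocallyClosed)
    have h2 : (Subtype.val '' (U ∩ closure ({(⟨u, huW⟩ : W)} : Set W)) ∩ closedPoints X : Set X).Nonempty := by
      by_contra h
      rw [Set.not_nonempty_iff_eq_empty] at h
      have h3 := JacobsonSpace.closure_inter_closedPoints_eq_closure h1
      rw [h, closure_empty] at h3
      obtain ⟨z, hz⟩ := hne
      have : z.1 ∈ closure (Subtype.val '' (U ∩ closure ({(⟨u, huW⟩ : W)} : Set W)) : Set X) :=
        subset_closure ⟨z, hz, rfl⟩
      rw [← h3] at this
      exact this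
    obtain ⟨_, ⟨z, hz, rfl⟩, hzc⟩ := h2
    exact ⟨z.1, hsub hz, hzc⟩
  · exfalso
    obtain ⟨z, hzU, hz⟩ := hne
    have h3 : (⟨u, huW⟩ : W) ⤳ z := specializes_iff_mem_closure.2 hz
    exact hsub ⟨h3.mem_open hU hzU, subset_closure rfl⟩ hu

/-- In a locally Noetherian scheme closed sets are locally constructible. -/
theorem isLocallyConstructible_of_isClosed {X : Scheme.{u}} [IsLocallyNoetherian X] {Z : Set X}
    (hZ : IsClosed Z) : IsLocallyConstructible Z := by
  intro x
  obtain ⟨W, hW, hxW, -⟩ := exists_isAffineOpen_mem_and_subset (X := X) (x := x) (U := ⊤) trivial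
  have h1 : IsNoetherianRing Γ(X, W) := IsLocallyNoetherian.component_noetherian ⟨W, hW⟩
  have h2 : TopologicalSpace.NoetherianSpace (W : Set X) := noetherianSpace_of_isAffineOpen W hW
  refine ⟨W, W.isOpen.mem_nhds hxW, W.isOpen, ?_⟩
  rw [← isConstructible_compl]
  refine IsRetrocompact.isConstructible (hZ.preimage continuous_subtype_val).isOpen_compl ?_
  exact fun _ _ _ => NoetherianSpace.isCompact _

theorem isLocallyConstructible_sdiff {X : Type*} [TopologicalSpace X] {s t : Set X}
    (hs : IsLocallyConstructible s) (ht : IsLocallyConstructible t) :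
    IsLocallyConstructible (s \ t) := by
  have h : IsLocallyConstructible tᶜ := by
    intro x
    obtain ⟨U, hxU, hU, h⟩ := ht x
    exact ⟨U, hxU, hU, isConstructible_compl.mpr h⟩
  rw [Set.sdiff_eq]
  exact hs.inter h

end Top

section Field

variable {K : Type u} [Field K]

/-- A scheme of finite type over a field has finite Krull dimension. -/
theorem exists_topologicalKrullDim_le (H : Over (Spec (CommRingCat.of K))) [LocallyOfFiniteType H.hom]
    [QuasiCompact H.hom] : ∃ d : ℕ, topologicalKrullDim H.left ≤ d := by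
  have hc : CompactSpace H.left := QuasiCompact.compactSpace_of_compactSpace H.hom
  -- affine opens have finite dimension
  have h1 : ∀ x : H.left, ∃ (U : H.left.Opens) (d : ℕ), x ∈ U ∧ topologicalKrullDim U ≤ d := by
    intro x
    obtain ⟨U, hU, hxU, -⟩ := exists_isAffineOpen_mem_and_subset (X := H.left) (x := x) (U := ⊤) trivial
    have h2 : (H.hom.appLE ⊤ U le_top).hom.FiniteType :=
      H.hom.finiteType_appLE (isAffineOpen_top _) hU le_top
    let e : K →+* Γ(Spec (CommRingCat.of K), ⊤) := (Scheme.ΓSpecIso (CommRingCat.of K)).inv.hom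
    have h3 : ((H.hom.appLE ⊤ U le_top).hom.comp e).FiniteType := by
      refine RingHom.FiniteType.comp h2 (RingHom.FiniteType.of_surjective _ ?_)
      exact (Scheme.ΓSpecIso (CommRingCat.of K)).symm.commRingCatIsoToRingEquiv.surjective
    let _ : Algebra K Γ(H.left, U) := ((H.hom.appLE ⊤ U le_top).hom.comp e).toAlgebra
    have h4 : Algebra.FiniteType K Γ(H.left, U) := h3
    obtain ⟨n, f, hf⟩ := Algebra.FiniteType.iff_quotient_mvPolynomial''.mp h4
    refine ⟨U, n, hxU, ?_⟩
    have h5 : topologicalKrullDim U = topologicalKrullDim (PrimeSpectrum Γ(H.left, U)) :=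
      IsHomeomorph.topologicalKrullDim_eq _ (Scheme.homeoOfIso hU.isoSpec).isHomeomorph
    rw [h5, PrimeSpectrum.topologicalKrullDim_eq_ringKrullDim]
    refine (ringKrullDim_le_of_surjective f.toRingHom hf).trans ?_
    rw [MvPolynomial.ringKrullDim_of_isNoetherianRing, ringKrullDim_eq_zero_of_field]
    simp
  choose U d hxU hd using h1
  obtain ⟨F, hF⟩ := isCompact_univ.elim_finite_subcover (fun x => (U x : Set H.left))
    (fun x => (U x).isOpen) (fun x _ => Set.mem_iUnion.mpr ⟨x, hxU x⟩)
  refine ⟨F.sup d, ?_⟩
  refine LocBound.topologicalKrullDim_le_of_openEmbeddings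
    (fun (i : F) => (Subtype.val : U i.1 → H.left))
    (fun i => (U i.1).isOpen.isOpenEmbedding_subtypeVal) ?_ ?_
  · intro x
    obtain ⟨i, hi, hx⟩ := Set.mem_iUnion₂.mp (hF (Set.mem_univ x))
    exact ⟨⟨i, hi⟩, ⟨x, hx⟩, rfl⟩
  · intro i
    refine (hd i.1).trans ?_
    exact_mod_cast Finset.le_sup (f := d) i.2

variable {X H : Over (Spec (CommRingCat.of K))} [GrpObj H] (f : X ⟶ H)
  [LocallyOfFiniteType X.hom] [LocallyOfFiniteType H.hom]

theorem isLocallyConstructible_range {P Q : Over (Spec (CommRingCat.of K))}
    [LocallyOfFiniteType P.hom] [QuasiCompact P.hom] [LocallyOfFiniteType Q.hom] (φ : P ⟶ Q) :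
    IsLocallyConstructible (Set.range φ.left.base) := by
  have h1 : IsLocallyNoetherian Q.left := LocallyOfFiniteType.isLocallyNoetherian Q.hom
  have h2 : LocallyOfFiniteType φ.left := by
    have : LocallyOfFiniteType (φ.left ≫ Q.hom) := by rw [Over.w]; infer_instance
    exact locallyOfFiniteType_of_comp φ.left Q.hom
  have h3 : QuasiCompact φ.left := by
    have : QuasiCompact (φ.left ≫ Q.hom) := by rw [Over.w]; infer_instance
    have : QuasiSeparatedSpace Q.left := inferInstance
    have : QuasiSeparated Q.hom := QuasiSeparated.of_quasiSeparatedSpace _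
    exact QuasiCompact.of_comp φ.left Q.hom
  have h4 : LocallyOfFinitePresentation φ.left := inferInstance
  rw [← Set.image_univ]
  exact φ.left.isLocallyConstructible_image IsLocallyConstructible.univ

theorem isLocallyConstructible_W [QuasiCompact X.hom] (n : ℕ) :
    IsLocallyConstructible (W f n) := by
  rw [W_eq]
  exact IsLocallyConstructible.iUnion fun ε => isLocallyConstructible_range _

end Field

section AlgClosed

variable {K : Type u} [Field K] [IsAlgClosed K]

/-- A locally constructible set whose rational points form a closed set is closed. -/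
theorem isClosed_of_preimage {H : Over (Spec (CommRingCat.of K))} [LocallyOfFiniteType H.hom]
    {C : Set H.left} (hC : IsLocallyConstructible C) (h : IsClosed (ev ⁻¹' C : Set (Pts H))) :
    IsClosed C := by
  have h1 : IsLocallyNoetherian H.left := LocallyOfFiniteType.isLocallyNoetherian H.hom
  have h2 : JacobsonSpace H.left := LocallyOfFiniteType.jacobsonSpace H.hom
  obtain ⟨F, hF, hFC⟩ := isInducing_ev.isClosed_iff.mp h
  have key : ∀ g : Pts H, ev g ∈ F ↔ ev g ∈ C := by
    intro g
    have := Set.ext_iff.mp hFC g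
    exact this
  have hcl : ∀ x ∈ closedPoints H.left, x ∈ F ↔ x ∈ C := by
    intro x hx
    rw [← range_ev] at hx
    obtain ⟨g, rfl⟩ := hx
    exact key g
  -- `F₀ = closure (C ∩ closed points)`
  let F₀ := closure (C ∩ closedPoints H.left)
  have hF₀F : F₀ ⊆ F := closure_minimal (fun x hx => (hcl x hx.2).mpr hx.1) hF
  have hF₀ : ∀ x ∈ closedPoints H.left, x ∈ F₀ ↔ x ∈ C := by
    intro x hx
    exact ⟨fun h => (hcl x hx).mp (hF₀F h), fun h => subset_closure ⟨h, hx⟩⟩
  have e : C = F₀ := by
    apply Set.Subset.antisymm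
    · by_contra hcon
      have hne : (C \ F₀).Nonempty := Set.not_subset.mp hcon |>.imp fun x hx => hx
      obtain ⟨x, ⟨hxC, hxF⟩, hx⟩ := exists_closedPoint
        (isLocallyConstructible_sdiff hC (isLocallyConstructible_of_isClosed isClosed_closure)) hne
      exact hxF ((hF₀ x hx).mpr hxC)
    · by_contra hcon
      have hne : (F₀ \ C).Nonempty := Set.not_subset.mp hcon |>.imp fun x hx => hx
      obtain ⟨x, ⟨hxF, hxC⟩, hx⟩ := exists_closedPoint
        (isLocallyConstructible_sdiff (isLocallyConstructible_of_isClosed isClosed_closure) hC) hne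
      exact hxC ((hF₀ x hx).mp hxF)
  rw [e]
  exact isClosed_closure

variable {X H : Over (Spec (CommRingCat.of K))} [GrpObj H] (f : X ⟶ H)
  [LocallyOfFiniteType X.hom] [LocallyOfFiniteType H.hom]

/-- The powers of the set of signed values are constructible. -/
theorem isConstructible_Y_pow [QuasiCompact X.hom] [QuasiCompact H.hom] (n : ℕ) :
    IsConstructible (Y f ^ n) := by
  have h0 : NoetherianSpace (Pts H) := noetherianSpace
  have h1 : IsLocallyNoetherian H.left := LocallyOfFiniteType.isLocallyNoetherian H.hom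
  have h2 : CompactSpace H.left := QuasiCompact.compactSpace_of_compactSpace H.hom
  rw [← preimage_W]
  exact isConstructible_preimage isInducing_ev.continuous
    (isLocallyConstructible_W f n).isConstructible

/-- `f` generates a closed subgroup by words of bounded length. -/
def Good : Prop :=
  ∃ N : ℕ, ∀ m : ℕ, N ≤ m → IsClosed (W f m) ∧
    (Y f ^ m : Set (Pts H)) = (Subgroup.closure (Y f) : Set (Pts H))

/-- **Borel's theorem** for group schemes of finite type. -/
theorem good_of_isPreconnected [QuasiCompact X.hom] [QuasiCompact H.hom] (h1 : (1 : Pts H) ∈ Y f)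
    (hY : IsPreconnected (Y f)) :
    ∃ N : ℕ, ∀ m : ℕ, N ≤ m → IsClosed (W f m) ∧
      (Y f ^ m : Set (Pts H)) = (Subgroup.closure (Y f) : Set (Pts H)) ∧ IsIrreducible (Y f ^ m) := by
  have h0 : NoetherianSpace (Pts H) := noetherianSpace
  obtain ⟨d, hd⟩ := exists_topologicalKrullDim_le H
  have hd' : topologicalKrullDim (Pts H) ≤ d := isInducing_ev.topologicalKrullDim_le.trans hd
  obtain ⟨N, hN⟩ := WordTop.exists_pow_eq zarCont hd' h1 hY (by
    intro n hirr
    rcases Groth.Agent.Ega3A.ConstrTopBasic.dichotomy (isConstructible_Y_pow f n) hirr with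
      ⟨U, hU, hne, hsub⟩ | ⟨U, hU, hne, hsub⟩
    · exact ⟨U, hU, hne, hsub⟩
    · exfalso
      obtain ⟨x, hxU, hx⟩ := hne
      obtain ⟨y, hyU, hy⟩ := mem_closure_iff.mp hx U hU hxU
      exact hsub ⟨hyU, subset_closure hy⟩ hy)
  refine ⟨N, fun m hm => ?_⟩
  obtain ⟨e1, e2, e3⟩ := hN m hm
  refine ⟨isClosed_of_preimage (isLocallyConstructible_W f m) ?_, e1, e3⟩
  rw [preimage_W]; exact e2

end AlgClosed

end K209.WordSch
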